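import Cfsg.Agent.Lib.J2Type.Centralizer
import Cfsg.Agent.Lib.JTwoType.FiveMain
import Mathlib.GroupTheory.Transfer
import Mathlib.GroupTheory.SpecificGroups.Cyclic

/-!
# Simplicity and the central extension by a group of order five for groups of Hall–Janko type
-/

set_option autoImplicit false
set_option linter.style.haveILetI false
set_option maxRecDepth 4000

namespace CfsgLib.CoOneJTwo

open Subgroup
open CfsgLib.J2Type (Hyp Four mem_cent)

universe u

variable {G : Type u} [Group G] [Finite G] {z : G} {Q : Subgroup G}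
  {f : ↥(Subgroup.centralizer ({z} : Set G)) →* alternatingGroup (Fin 5)}

/-- There is an involution of the centralizer outside the extraspecial subgroup. -/
theorem exists_outside (h : Hyp z Q f) : ∃ t, orderOf t = 2 ∧ Commute t z ∧ t ∉ Q := by
  classical
  obtain ⟨u, huQ, huz, hc⟩ := h.hnwc
  have huu : u * u = 1 := by
    obtain ⟨g, rfl⟩ := isConj_iff.1 hc
    exact CfsgLib.J2Type.conj_mul_self h.zz
  have hu1 : u ≠ 1 := fun e => by
    obtain ⟨g, rfl⟩ := isConj_iff.1 hc
    exact h.z_ne (conj_eq_one_iff.1 e)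
  obtain ⟨R, r, p⟩ := h.exists_pair huQ huu hu1 huz
  by_contra hno
  push Not at hno
  have huz1 : u * z ≠ 1 := p.uz_ne_one
  have hzz := h.zz
  -- the commutators
  have hA : ∀ x y, x ∈ Q → Commute x u → y ∈ R → Commute y z →
      x * y = y * x ∨ x * y = y * x * z ∨ x * y = y * x * u := by
    intro x y hx hxu hy hyz
    by_cases hnx : Four z u x
    · exact Or.inl (hnx.comm hyz (p.right.comm_z hy)).symm.eq
    by_cases hny : Four z u y
    · exact Or.inl (hny.comm (h.comm_z hx) hxu).eq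
    obtain ⟨c, hc, he⟩ := p.commutator hx hxu hy hyz
    rcases hc with e | e | e | e
    · left; rw [he, e, mul_one]
    · right; left; rw [he, e]
    · right; right; rw [he, e]
    · exfalso
      have hsq := p.square_prod hx hxu hy hyz (Or.inr (Or.inr (Or.inr e))) he
      rw [e, p.sq_of_not_four hx hxu hnx,
        p.symm.sq_of_not_four hy hyz (fun h4 => hny (p.four_symm.1 h4)), p.comm.eq,
        h.mul_z_invol p.memQ huu] at hsq
      have hne : x * y ≠ 1 := fun e1 => by
        have hyQ : y ∈ Q := by rw [eq_inv_of_mul_eq_one_right e1]; exact Q.inv_mem hx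
        exact hny (p.four_of_mem hyQ hy)
      have hQ := hno (x * y) (CfsgLib.Invol.orderOf_eq_two hne hsq) ((h.comm_z hx).mul_left hyz)
      exact hny (p.four_of_mem (by simpa using Q.mul_mem (Q.inv_mem hx) hQ) hy)
  have hB : ∀ x y, x ∈ Q → Commute x u → y ∈ R → Commute y z → x * y ≠ y * x * (z * u) := by
    intro x y hx hxu hy hyz e
    rcases hA x y hx hxu hy hyz with e' | e' | e' <;> rw [e'] at e
    · exact huz1 ((p.comm.eq ▸ mul_eq_left.1 e.symm : u * z = 1))
    · exact hu1 (mul_eq_left.1 (mul_left_cancel e).symm)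
    · exact h.z_ne (mul_eq_right.1 (mul_left_cancel e).symm)
  have hC : (∀ x y, x ∈ Q → Commute x u → y ∈ R → Commute y z → x * y = y * x ∨ x * y = y * x * z) ∨
      ∀ x y, x ∈ Q → Commute x u → y ∈ R → Commute y z → x * y = y * x ∨ x * y = y * x * u := by
    by_contra! hne
    obtain ⟨⟨x', y', hx', hxu', hy', hyz', h1, h1'⟩, ⟨x, y, hx, hxu, hy, hyz, h2, h2'⟩⟩ := hne
    have eu : x' * y' = y' * x' * u := ((hA x' y' hx' hxu' hy' hyz').resolve_left h1).resolve_left h1'
    have ez : x * y = y * x * z :=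
      ((hA x y hx hxu hy hyz).resolve_left h2).resolve_right h2'
    have hxz := h.comm_z hx
    have hxz' := h.comm_z hx'
    have hyu := p.right.comm_z hy
    have hyu' := p.right.comm_z hy'
    have hcom : x * y' = y' * x := by
      rcases hA x y' hx hxu hy' hyz' with e | e | e
      · exact e
      · exfalso
        refine hB (x * x') y' (Q.mul_mem hx hx') (hxu.mul_left hxu') hy' hyz' ?_
        calc x * x' * y' = x * (x' * y') := mul_assoc _ _ _
          _ = x * y' * x' * u := by rw [eu]; group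
          _ = y' * x * (z * x') * u := by rw [e]; group
          _ = y' * (x * x') * (z * u) := by rw [← hxz'.eq]; group
      · exfalso
        refine hB x (y * y') hx hxu (R.mul_mem hy hy') (hyz.mul_left hyz') ?_
        calc x * (y * y') = x * y * y' := (mul_assoc _ _ _).symm
          _ = y * x * (z * y') := by rw [ez]; group
          _ = y * (x * y') * z := by rw [← hyz'.eq]; group
          _ = y * y' * x * (u * z) := by rw [e]; group
          _ = y * y' * x * (z * u) := by rw [p.comm.eq]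
    have hcom' : x' * y = y * x' := by
      rcases hA x' y hx' hxu' hy hyz with e | e | e
      · exact e
      · exfalso
        refine hB x' (y * y') hx' hxu' (R.mul_mem hy hy') (hyz.mul_left hyz') ?_
        calc x' * (y * y') = x' * y * y' := (mul_assoc _ _ _).symm
          _ = y * x' * (z * y') := by rw [e]; group
          _ = y * (x' * y') * z := by rw [← hyz'.eq]; group
          _ = y * y' * x' * (u * z) := by rw [eu]; group
          _ = y * y' * x' * (z * u) := by rw [p.comm.eq]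
      · exfalso
        refine hB (x * x') y (Q.mul_mem hx hx') (hxu.mul_left hxu') hy hyz ?_
        calc x * x' * y = x * (x' * y) := mul_assoc _ _ _
          _ = x * y * x' * u := by rw [e]; group
          _ = y * x * (z * x') * u := by rw [ez]; group
          _ = y * (x * x') * (z * u) := by rw [← hxz'.eq]; group
    refine hB (x * x') (y * y') (Q.mul_mem hx hx') (hxu.mul_left hxu') (R.mul_mem hy hy') (hyz.mul_left hyz') ?_
    calc x * x' * (y * y') = x * (x' * y) * y' := by group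
      _ = x * y * (x' * y') := by rw [hcom']; group
      _ = y * x * ((z * y') * x') * u := by rw [ez, eu]; group
      _ = y * (x * y') * (z * x') * u := by rw [← hyz'.eq]; group
      _ = y * y' * (x * x') * (z * u) := by rw [hcom, ← hxz'.eq]; group
  -- an element fixing a hyperplane modulo the centre lies in the extraspecial subgroup
  have hfix : ∀ {z u : G} {Q R : Subgroup G}
      {f : ↥(Subgroup.centralizer ({z} : Set G)) →* alternatingGroup (Fin 5)}
      {r : ↥(Subgroup.centralizer ({u} : Set G)) →* alternatingGroup (Fin 5)}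
      (p : CfsgLib.J2Type.Pair z u Q R f r),
      (∀ q y, q ∈ Q → Commute q u → y ∈ R → Commute y z → y * q * y⁻¹ = q ∨ y * q * y⁻¹ = q * z) → False := by
    intro z u Q R f r p hall
    obtain ⟨-, hsq, -, y, hy, hyR, hy1⟩ := p.image_facts
    have hle : (Q ⊓ Subgroup.centralizer ({u} : Set G) : Subgroup G) ≤ p.left.fixMod hy := fun q hq =>
      ⟨hq.1, hall q y hq.1 (mem_cent.1 hq.2) hyR hy⟩
    have h1 := Subgroup.card_le_of_le hle
    rw [p.left.card_cent p.memQ p.right.z_ne p.ne] at h1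
    have h2 := p.left.card_fixMod_le hy (hsq y hy hyR) hy1
    omega
  rcases hC with hCz | hCu
  · refine hfix p fun q y hq hqu hy hyz => ?_
    rcases hCz q y hq hqu hy hyz with e | e
    · left; rw [← e, mul_inv_cancel_right]
    · right
      have hzy : Commute z y := hyz.symm
      calc y * q * y⁻¹ = (y * q * z) * (z * y⁻¹) := by
            rw [show y * q * z * (z * y⁻¹) = y * q * (z * z) * y⁻¹ by group, hzz, mul_one]
        _ = q * y * (y⁻¹ * z) := by rw [← e, hzy.inv_right.eq]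
        _ = q * z := by group
  · refine hfix p.symm fun y x hy hyz hx hxu => ?_
    rcases hCu x y hx hxu hy hyz with e | e
    · left; rw [e, mul_inv_cancel_right]
    · right
      calc x * y * x⁻¹ = y * x * u * x⁻¹ := by rw [e]
        _ = y * (x * u * x⁻¹) := by group
        _ = y * u := by rw [hxu.eq, mul_inv_cancel_right]

/-- The centralizers of a pair generate the group. -/
theorem closure_pair (h : Hyp z Q f) {u : G} (huQ : u ∈ Q) (huu : u * u = 1) (hu1 : u ≠ 1) (huz : u ≠ z)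
    {t₀ : G} (ht₀ : orderOf t₀ = 2) (hn₀ : ¬ IsConj z t₀) :
    Subgroup.centralizer ({z} : Set G) ⊔ Subgroup.centralizer ({u} : Set G) = ⊤ := by
  classical
  set M := Subgroup.centralizer ({z} : Set G) ⊔ Subgroup.centralizer ({u} : Set G) with hM
  have hzM : Subgroup.centralizer ({z} : Set G) ≤ M := le_sup_left
  have hz : z ∈ M := hzM (mem_cent.2 (Commute.refl z))
  let incl : ↥(Subgroup.centralizer ({(⟨z, hz⟩ : M)} : Set M)) →* ↥(Subgroup.centralizer ({z} : Set G)) :=
    { toFun := fun c => ⟨((c : M) : G), mem_cent.2 (congrArg Subtype.val (mem_cent.1 c.2).eq :)⟩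
      map_one' := rfl
      map_mul' := fun _ _ => rfl }
  obtain ⟨R, r, p⟩ := h.exists_pair huQ huu hu1 huz
  obtain ⟨q, hq, hqu⟩ := h.not_comm_exists huQ hu1 huz
  obtain ⟨y, hy, hyz⟩ := p.right.not_comm_exists p.memR h.z_ne huz.symm
  have hg : q * y ∈ M := M.mul_mem (hzM (mem_cent.2 (h.comm_z hq))) (le_sup_right (a := Subgroup.centralizer ({z} : Set G)) (mem_cent.2 (p.right.comm_z hy)))
  have e1 := h.conj_of_not_comm hq p.memQ hqu
  have e2 := p.right.conj_of_not_comm hy p.memR hyz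
  have hgz : q * y * z * (q * y)⁻¹ = u := by
    calc q * y * z * (q * y)⁻¹ = q * (y * z * y⁻¹) * q⁻¹ := by group
      _ = (q * z * q⁻¹) * (q * u * q⁻¹) := by rw [e2]; group
      _ = z * (u * z) := by rw [e1, (h.comm_z hq).eq, mul_inv_cancel_right]
      _ = u := by rw [← mul_assoc, p.comm.eq, mul_assoc, h.zz, mul_one]
  have hQM : ∀ q ∈ Q, q ∈ M := fun q hq => hzM (h.hQle hq)
  have hH : Hyp (⟨z, hz⟩ : M) (Q.subgroupOf M) (f.comp incl) :=
    { hz := by rw [Subgroup.orderOf_mk]; exact h.hz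
      hQle := fun a ha => mem_cent.2 (Subtype.ext (show (a : G) * z = z * (a : G) from (h.comm_z ha).eq))
      hker := fun c => h.hker (incl c)
      hsurj := fun a => by
        obtain ⟨c, hc⟩ := h.hsurj a
        exact ⟨⟨⟨c, hzM c.2⟩, mem_cent.2 (Subtype.ext (show (c : G) * z = z * (c : G) from (mem_cent.1 c.2).eq))⟩, hc⟩
      hQ := (Nat.card_congr (Subgroup.subgroupOfEquivOfLe hQM).toEquiv).trans h.hQ
      hzQ := h.hzQ
      hsq := fun a ha => (h.hsq a ha).imp (fun e => Subtype.ext e) (fun e => Subtype.ext e)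
      hcomm := fun a ha c hc => (h.hcomm a ha c hc).imp (fun e => Subtype.ext e) (fun e => Subtype.ext e)
      hcent := fun a ha hall => (h.hcent a ha fun c hc =>
        congrArg Subtype.val (hall ⟨c, hQM c hc⟩ hc)).imp (fun e => Subtype.ext e) (fun e => Subtype.ext e)
      hfaith := fun c hc => h.hfaith (incl c) fun q hq =>
        (congrArg Subtype.val (hc ⟨q, hQM q hq⟩ hq).eq :)
      hnwc := ⟨⟨u, hQM u huQ⟩, huQ, fun e => huz (congrArg Subtype.val e),
        isConj_iff.2 ⟨⟨q * y, hg⟩, Subtype.ext hgz⟩⟩ }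
  obtain ⟨a, ha⟩ := h.conj_into (CfsgLib.Invol.mul_self_eq_one ht₀)
  have htM : a * t₀ * a⁻¹ ∈ M := hzM (mem_cent.2 ha)
  have h1 := hH.card_group (t₀ := ⟨a * t₀ * a⁻¹, htM⟩)
    (by rw [Subgroup.orderOf_mk, CfsgLib.Invol.orderOf_conj, ht₀])
    (fun hc => hn₀ ((M.subtype.map_isConj hc).trans (isConj_iff.2 ⟨a⁻¹, by
      show a⁻¹ * (a * t₀ * a⁻¹) * a⁻¹⁻¹ = t₀; group⟩)))
  exact Subgroup.eq_top_of_card_eq M (h1.trans (h.card_group ht₀ hn₀).symm)

/-- A group with this centralizer is simple. -/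
theorem isSimple (h : Hyp z Q f) : IsSimpleGroup G := by
  classical
  haveI : Fact (Nat.Prime 2) := ⟨Nat.prime_two⟩
  haveI : Nontrivial G := ⟨⟨z, 1, h.z_ne⟩⟩
  obtain ⟨u, huQ, huz, hcu⟩ := h.hnwc
  have huu : u * u = 1 := by
    obtain ⟨g, rfl⟩ := isConj_iff.1 hcu
    exact CfsgLib.J2Type.conj_mul_self h.zz
  have hu1 : u ≠ 1 := fun e => by
    obtain ⟨g, rfl⟩ := isConj_iff.1 hcu
    exact h.z_ne (conj_eq_one_iff.1 e)
  obtain ⟨w, hwQ, hwu, hww⟩ := h.exists_sq huQ huu hu1 huz
  have hzu : Commute z u := (h.comm_z huQ).symm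
  refine ⟨fun N hN => ?_⟩
  by_cases hNbot : N = ⊥
  · exact Or.inl hNbot
  right
  -- `N` has even order
  have heven : 2 ∣ Nat.card N := by
    by_contra hodd
    have hinv : ∀ v : G, IsConj z v → ∀ n ∈ N, v * n * v⁻¹ = n⁻¹ := by
      intro v hv n hn
      obtain ⟨g, rfl⟩ := isConj_iff.1 hv
      have hone : ∀ m ∈ N, Commute m (g * z * g⁻¹) → m = 1 := by
        intro m hm hmc
        set m' := g⁻¹ * m * g with hm'
        have hm'N : m' ∈ N := by
          have := hN.conj_mem m hm g⁻¹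
          rwa [inv_inv] at this
        have hm'z : Commute m' z := by
          rw [← Commute.conj_iff g, hm', show g * (g⁻¹ * m * g) * g⁻¹ = m by group]; exact hmc
        have hodd' : ∀ a ∈ N, a * a = 1 → a = 1 := fun a ha haa => by
          by_contra ha1
          refine hodd ?_
          rw [← CfsgLib.Invol.orderOf_eq_two ha1 haa]
          exact Subgroup.orderOf_dvd_natCard _ ha
        have hcent : ∀ q ∈ Q, Commute m' q := by
          intro q hq
          have hcQ : m' * q * m'⁻¹ * q⁻¹ ∈ Q := Q.mul_mem (h.conj_mem hm'z hq) (Q.inv_mem hq)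
          have hcN : m' * q * m'⁻¹ * q⁻¹ ∈ N := by
            rw [show m' * q * m'⁻¹ * q⁻¹ = m' * (q * m'⁻¹ * q⁻¹) by group]
            exact N.mul_mem hm'N (hN.conj_mem _ (N.inv_mem hm'N) q)
          have h4 := h.pow_four hcQ
          rw [show (4 : ℕ) = 2 + 2 from rfl, pow_add, pow_two] at h4
          have hc1 := hodd' _ hcN (hodd' _ (N.mul_mem hcN hcN) h4)
          exact mul_inv_eq_iff_eq_mul.1 (mul_inv_eq_one.1 hc1)
        have hm'Q : m' ∈ Q := h.hfaith ⟨m', mem_cent.2 hm'z⟩ hcent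
        have h4 := h.pow_four hm'Q
        rw [show (4 : ℕ) = 2 + 2 from rfl, pow_add, pow_two] at h4
        have := hodd' _ hm'N (hodd' _ (N.mul_mem hm'N hm'N) h4)
        rw [hm'] at this
        calc m = g * (g⁻¹ * m * g) * g⁻¹ := by group
          _ = 1 := by rw [this]; group
      -- fixed-point-free involution
      set v := g * z * g⁻¹ with hv'
      have hvv : v * v = 1 := CfsgLib.J2Type.conj_mul_self h.zz
      have hvi : v⁻¹ = v := inv_eq_of_mul_eq_one_left hvv
      let D : N → N := fun m => ⟨m.1⁻¹ * (v * m.1 * v⁻¹), N.mul_mem (N.inv_mem m.2) (hN.conj_mem _ m.2 v)⟩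
      have hinj : Function.Injective D := by
        intro a c e
        have e' : a.1⁻¹ * (v * a.1 * v⁻¹) = c.1⁻¹ * (v * c.1 * v⁻¹) := congrArg Subtype.val e
        have hc : Commute (c.1 * a.1⁻¹) v := by
          have h1 : c.1 * a.1⁻¹ = v * (c.1 * a.1⁻¹) * v⁻¹ := by
            calc c.1 * a.1⁻¹ = c.1 * (a.1⁻¹ * (v * a.1 * v⁻¹)) * (v * a.1 * v⁻¹)⁻¹ := by group
              _ = c.1 * (c.1⁻¹ * (v * c.1 * v⁻¹)) * (v * a.1 * v⁻¹)⁻¹ := by rw [e']
              _ = v * (c.1 * a.1⁻¹) * v⁻¹ := by group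
          exact (mul_inv_eq_iff_eq_mul.1 h1.symm :).symm
        exact Subtype.ext (mul_inv_eq_one.1 (hone _ (N.mul_mem c.2 (N.inv_mem a.2)) hc)).symm
      obtain ⟨⟨m, hm⟩, hm'⟩ := Finite.surjective_of_injective hinj ⟨n, hn⟩
      have e : m⁻¹ * (v * m * v⁻¹) = n := congrArg Subtype.val hm'
      rw [← e]
      calc v * (m⁻¹ * (v * m * v⁻¹)) * v⁻¹ = v * m⁻¹ * v * m * (v * v)⁻¹ := by group
        _ = v * m⁻¹ * v * m := by rw [hvv, inv_one, mul_one]
        _ = v * m⁻¹ * v⁻¹ * m := by rw [hvi]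
        _ = (m⁻¹ * (v * m * v⁻¹))⁻¹ := by group
    obtain ⟨n, hn, hn1⟩ : ∃ n ∈ N, n ≠ 1 := by
      by_contra! hall
      exact hNbot ((Subgroup.eq_bot_iff_forall N).2 hall)
    have hcuz : IsConj z (u * z) := h.isConj_z (Q.mul_mem huQ h.hzQ)
      (CfsgLib.Invol.orderOf_eq_two (fun e => huz (by rw [eq_inv_of_mul_eq_one_left e, h.z_inv]))
        (h.mul_z_invol huQ huu))
    have e1 := hinv z (IsConj.refl z) n hn
    have e2 := hinv u hcu _ (N.inv_mem hn)
    have e3 := hinv (u * z) hcuz n hn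
    rw [inv_inv] at e2
    rw [show u * z * n * (u * z)⁻¹ = u * (z * n * z⁻¹) * u⁻¹ by group, e1, e2] at e3
    have hnn : n * n = 1 := mul_eq_one_iff_eq_inv.2 e3
    refine hodd ?_
    rw [← CfsgLib.Invol.orderOf_eq_two hn1 hnn]
    exact Subgroup.orderOf_dvd_natCard _ hn
  -- `z` is the only central involution of a Sylow subgroup through `Q`
  have hQp : IsPGroup 2 Q := IsPGroup.of_card (n := 5) (by rw [h.hQ]; norm_num)
  obtain ⟨S, hQS⟩ := hQp.exists_le_sylow
  have hcenS : ∀ c ∈ (S : Subgroup G), (∀ s ∈ (S : Subgroup G), Commute c s) → c = 1 ∨ c = z := by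
    intro c hc hcom
    have hcQ : c ∈ Q := h.hfaith ⟨c, mem_cent.2 (hcom z (hQS h.hzQ))⟩ fun q hq => hcom q (hQS hq)
    exact h.hcent c hcQ fun q hq => (hcom q (hQS hq)).eq
  have hzS : ∀ s ∈ (S : Subgroup G), Commute z s := by
    haveI hnt : Nontrivial S := ⟨⟨⟨z, hQS h.hzQ⟩, 1, fun e => h.z_ne (congrArg Subtype.val e)⟩⟩
    haveI := S.2.center_nontrivial
    obtain ⟨⟨c, hcc⟩, hc1⟩ := exists_ne (1 : Subgroup.center S)
    have hcom : ∀ s ∈ (S : Subgroup G), Commute (c : G) s := fun s hs =>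
      (congrArg Subtype.val (Subgroup.mem_center_iff.1 hcc ⟨s, hs⟩) : s * (c : G) = c * s).symm
    rcases hcenS c c.2 hcom with e | e
    · exact absurd (Subtype.ext (Subtype.ext e)) hc1
    · exact fun s hs => e ▸ hcom s hs
  have hzN : z ∈ N := by
    obtain ⟨m, hm⟩ := exists_prime_orderOf_dvd_card' (G := N) 2 heven
    obtain ⟨P, hP⟩ := (IsPGroup.of_card (n := 1) (by
      rw [Nat.card_zpowers, Subgroup.orderOf_coe, hm, pow_one]) :
      IsPGroup 2 (Subgroup.zpowers (m : G))).exists_le_sylow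
    obtain ⟨g, hg⟩ := MulAction.exists_smul_eq G P S
    have hmS : g * (m : G) * g⁻¹ ∈ (S : Subgroup G) := by
      rw [← hg]; exact ⟨m, hP (Subgroup.mem_zpowers _), rfl⟩
    have hmN : g * (m : G) * g⁻¹ ∈ N := hN.conj_mem _ m.2 g
    have hm1 : g * (m : G) * g⁻¹ ≠ 1 := fun e => by
      rw [conj_eq_one_iff] at e
      rw [← Subgroup.orderOf_coe, e, orderOf_one] at hm
      omega
    set T := N.subgroupOf (S : Subgroup G)
    haveI : T.Normal := hN.subgroupOf _
    haveI : Nontrivial T := ⟨⟨⟨⟨_, hmS⟩, hmN⟩, 1, fun e => hm1 (congrArg (fun c : T => ((c : S) : G)) e)⟩⟩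
    obtain ⟨k, hk⟩ : ∃ k, Nat.card (S : Subgroup G) = 2 ^ k := IsPGroup.iff_card.1 S.2
    have hdvd : 2 ∣ Nat.card T := by
      obtain ⟨j, hj⟩ := IsPGroup.iff_card.1 (S.2.to_subgroup T)
      rw [hj]
      exact dvd_pow_self 2 fun e => (Finite.one_lt_card (α := T)).ne' (by rw [hj, e, pow_zero])
    let ρ : (S : Subgroup G) →* Equiv.Perm T :=
      { toFun := fun s =>
          { toFun := fun t => ⟨s * t.1 * s⁻¹, Subgroup.Normal.conj_mem inferInstance _ t.2 s⟩
            invFun := fun t => ⟨s⁻¹ * t.1 * s, by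
              have := Subgroup.Normal.conj_mem (inferInstance : T.Normal) _ t.2 s⁻¹
              rwa [inv_inv] at this⟩
            left_inv := fun t => Subtype.ext (by group)
            right_inv := fun t => Subtype.ext (by group) }
        map_one' := Equiv.ext fun t => Subtype.ext (by simp)
        map_mul' := fun a c => Equiv.ext fun t => Subtype.ext (by simp [mul_assoc]) }
    letI : MulAction (S : Subgroup G) T := MulAction.compHom T ρ
    obtain ⟨c, hc, hne⟩ := S.2.exists_fixed_point_of_prime_dvd_card_of_fixed_point T hdvd (a := (1 : T))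
      (fun s => Subtype.ext (by show s * (1 : S) * s⁻¹ = 1; group))
    have hcom : ∀ s ∈ (S : Subgroup G), Commute ((c.1 : S) : G) s := fun s hs => by
      have := congrArg (fun t : T => ((t.1 : S) : G)) (hc ⟨s, hs⟩)
      exact (mul_inv_eq_iff_eq_mul.1 (this : s * ((c.1 : S) : G) * s⁻¹ = ((c.1 : S) : G)) : _).symm
    rcases hcenS _ c.1.2 hcom with e | e
    · exact absurd (Subtype.ext (Subtype.ext e.symm)) hne
    · exact e ▸ c.2
  have hinvN : ∀ q ∈ Q, q * q = 1 → q ∈ N := by
    intro q hq hqq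
    by_cases hq1 : q = 1
    · rw [hq1]; exact N.one_mem
    obtain ⟨g, hg⟩ := isConj_iff.1 (h.isConj_z hq (CfsgLib.Invol.orderOf_eq_two hq1 hqq))
    rw [← hg]; exact hN.conj_mem z hzN g
  have huN := hinvN u huQ huu
  -- the whole of `C(z)` lies in `N`
  let C := Subgroup.centralizer ({z} : Set G)
  haveI : (N.subgroupOf C).Normal := hN.subgroupOf C
  haveI : IsSimpleGroup (alternatingGroup (Fin 5)) := alternatingGroup.isSimpleGroup (by simp)
  haveI hnorm : ((N.subgroupOf C).map f).Normal := Subgroup.Normal.map inferInstance f h.hsurj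
  set K := Q ⊓ N with hKdef
  have hK12 : 12 ≤ Nat.card K := by
    rw [← h.invol_count.1]
    exact Nat.card_le_card_of_injective (fun a => (⟨a.1, a.2.1, hinvN a.1 a.2.1 a.2.2⟩ : K))
      fun a c e => Subtype.ext (congrArg Subtype.val e :)
  have hmulc : ∀ K H : Subgroup G, K ≤ H → Nat.card K * K.relIndex H = Nat.card H := fun K H hKH => by
    have := Subgroup.relIndex_mul_relIndex ⊥ K H bot_le hKH
    rwa [Subgroup.relIndex_bot_left, Subgroup.relIndex_bot_left] at this
  have hmaptop : (N.subgroupOf C).map f = ⊤ := by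
    refine hnorm.eq_bot_or_eq_top.resolve_left fun hbot => ?_
    have hNC : ∀ x ∈ N, Commute x z → x ∈ Q := fun x hx hxz => (h.hker ⟨x, mem_cent.2 hxz⟩).1
      (Subgroup.mem_bot.1 (hbot ▸ Subgroup.mem_map_of_mem f (show (⟨x, mem_cent.2 hxz⟩ : C) ∈ N.subgroupOf C from hx)))
    obtain ⟨g, hg⟩ := isConj_iff.1 hcu
    set X := Q ⊓ Subgroup.centralizer ({u} : Set G) with hX
    have hsub : ∀ x ∈ K ⊓ X, x ∈ ({1, z, u, u * z} : Finset G) := by
      rintro x ⟨⟨hxQ, hxN⟩, -, hxu⟩
      have hxu' : Commute x u := mem_cent.1 hxu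
      have hmem : g⁻¹ * x * g ∈ Q := by
        refine hNC _ ?_ ?_
        · have := hN.conj_mem x hxN g⁻¹
          rwa [inv_inv] at this
        · rw [← Commute.conj_iff g, show g * (g⁻¹ * x * g) * g⁻¹ = x by group, hg]; exact hxu'
      have hxx : x * x = 1 := by
        rcases h.hsq x hxQ with e | e
        · exact e
        rcases h.hsq _ hmem with e' | e' <;>
          rw [show g⁻¹ * x * g * (g⁻¹ * x * g) = g⁻¹ * (x * x) * g by group, e] at e'
        · exact absurd (by
            calc z = g * (g⁻¹ * z * g) * g⁻¹ := by group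
              _ = 1 := by rw [e']; group) h.z_ne
        · refine absurd ?_ huz
          rw [← hg]
          calc g * z * g⁻¹ = g * (g⁻¹ * z * g) * g⁻¹ := by rw [e']
            _ = z := by group
      rcases h.invol_cases huQ huu hu1 huz hxQ hxx hxu'.symm with e | e | e | e <;> simp [e]
    have h4 : Nat.card (K ⊓ X : Subgroup G) ≤ 4 := by
      have hle := Nat.card_le_card_of_injective
        (fun x : (K ⊓ X : Subgroup G) => (⟨x.1, hsub x.1 x.2⟩ : ↥({1, z, u, u * z} : Finset G)))
        fun a c e => Subtype.ext (congrArg Subtype.val e :)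
      rw [Nat.card_eq_finsetCard] at hle
      exact hle.trans Finset.card_le_four
    have h2 : X.relIndex Q = 2 := by
      have := hmulc X Q inf_le_left
      rw [h.card_cent huQ hu1 huz, h.hQ] at this
      omega
    have h3 : X.relIndex K ≤ X.relIndex Q :=
      Subgroup.relIndex_le_of_le_right inf_le_left Subgroup.FiniteIndex.index_ne_zero
    have h5 := hmulc (K ⊓ X) K inf_le_left
    rw [Subgroup.inf_relIndex_left] at h5
    rw [h2] at h3
    nlinarith
  have hQN : ∀ q ∈ Q, q ∈ N := by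
    intro q hq
    suffices hK : Nat.card K = 32 by
      exact ((Subgroup.eq_of_le_of_card_ge (inf_le_left : K ≤ Q) (by rw [hK, h.hQ])).ge hq).2
    obtain ⟨e, he, he1, he5⟩ := h.exists_five
    obtain ⟨⟨n, hnC⟩, hnN, hne⟩ := (hmaptop.ge (Subgroup.mem_top (f ⟨e, mem_cent.2 he⟩)) :
      f ⟨e, mem_cent.2 he⟩ ∈ (N.subgroupOf C).map f)
    have hnz : Commute n z := mem_cent.1 hnC
    let φ : Q → K := fun a => ⟨n * a.1 * n⁻¹ * a.1⁻¹,
      Q.mul_mem (h.conj_mem hnz a.2) (Q.inv_mem a.2),
      by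
        rw [show n * a.1 * n⁻¹ * a.1⁻¹ = n * (a.1 * n⁻¹ * a.1⁻¹) by group]
        exact N.mul_mem hnN (hN.conj_mem _ (N.inv_mem hnN) a.1)⟩
    have hfive : ∀ a ∈ Q, (n * a * n⁻¹ = a ∨ n * a * n⁻¹ = a * z) → a = 1 ∨ a = z := fun a ha hfix =>
      h.fix_five hnz (by rw [show (⟨n, mem_cent.2 hnz⟩ : C) = ⟨n, hnC⟩ from rfl, hne]; exact he1)
        (by rw [show (⟨n, mem_cent.2 hnz⟩ : C) = ⟨n, hnC⟩ from rfl, hne]; exact he5) ha hfix
    have hzK : z ∈ K := ⟨h.hzQ, hzN⟩
    have hnot : ∀ a : Q, (φ a).1 ≠ z := fun a e => by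
      have e' : n * a.1 * n⁻¹ = a.1 * z := by
        have : n * a.1 * n⁻¹ = z * a.1 := mul_inv_eq_iff_eq_mul.1 e
        rw [this, (h.comm_z a.2).eq]
      rcases hfive a.1 a.2 (Or.inr e') with e1 | e1 <;>
        have e2 : (φ a).1 = n * a.1 * n⁻¹ * a.1⁻¹ := rfl <;> rw [e1] at e2
      · rw [e] at e2; exact h.z_ne (by rw [e2]; group)
      · rw [e, hnz.eq] at e2; exact h.z_ne (by rw [e2]; group)
    have hfib : ∀ a c : Q, φ a = φ c → c⁻¹ * a = 1 ∨ c⁻¹ * a = ⟨z, h.hzQ⟩ := by
      intro a c hac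
      have e : n * a.1 * n⁻¹ * a.1⁻¹ = n * c.1 * n⁻¹ * c.1⁻¹ := congrArg Subtype.val hac
      have e' : n * (c.1⁻¹ * a.1) * n⁻¹ = c.1⁻¹ * a.1 := by
        calc n * (c.1⁻¹ * a.1) * n⁻¹ = (n * c.1 * n⁻¹)⁻¹ * (n * a.1 * n⁻¹ * a.1⁻¹) * a.1 := by group
          _ = c.1⁻¹ * a.1 := by rw [e]; group
      exact (hfive _ (Q.mul_mem (Q.inv_mem c.2) a.2) (Or.inl e')).imp (fun e => Subtype.ext e)
        (fun e => Subtype.ext e)
    haveI := Fintype.ofFinite Q
    haveI := Fintype.ofFinite K
    have himg : (Finset.univ.image φ).card < Fintype.card K :=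
      Finset.card_lt_card (Finset.ssubset_univ_iff.2 fun e => by
        obtain ⟨a, -, ha⟩ := Finset.mem_image.1 (e ▸ Finset.mem_univ (⟨z, hzK⟩ : K))
        exact hnot a (congrArg Subtype.val ha))
    have hbound : Fintype.card Q ≤ 2 * (Finset.univ.image φ).card := by
      rw [← Finset.card_univ]
      refine Finset.card_le_mul_card_image _ _ fun b hb => ?_
      obtain ⟨c, -, rfl⟩ := Finset.mem_image.1 hb
      refine (Finset.card_le_card (t := {c, c * ⟨z, h.hzQ⟩}) fun a ha => ?_).trans Finset.card_le_two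
      rcases hfib a c (Finset.mem_filter.1 ha).2 with e | e
      · rw [inv_mul_eq_one.1 e]; simp
      · rw [inv_mul_eq_iff_eq_mul.1 e]; simp
    rw [← Nat.card_eq_fintype_card, h.hQ] at hbound
    rw [← Nat.card_eq_fintype_card] at himg
    have hdvd : Nat.card K ∣ 32 := h.hQ ▸ Subgroup.card_dvd_of_le inf_le_left
    have hle := Nat.le_of_dvd (by norm_num) hdvd
    obtain ⟨k, hk, hk'⟩ := (Nat.dvd_prime_pow Nat.prime_two).1 (show Nat.card K ∣ 2 ^ 5 from hdvd)
    rw [hk'] at himg ⊢
    interval_cases k <;> omega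
  have hCN : C ≤ N := by
    intro c hc
    obtain ⟨⟨x, hxC⟩, hx, e⟩ := (hmaptop.ge (Subgroup.mem_top (f ⟨c, hc⟩)) : f ⟨c, hc⟩ ∈ (N.subgroupOf C).map f)
    have hd := (h.hker (⟨x, hxC⟩⁻¹ * ⟨c, hc⟩)).1 (by rw [map_mul, map_inv, e, inv_mul_cancel])
    have := N.mul_mem (show x ∈ N from hx) (hQN _ hd)
    simpa using this
  have hSN : (S : Subgroup G) ≤ N := fun s hs => hCN (mem_cent.2 (hzS s hs).symm)
  haveI := hN
  have hfr := Sylow.normalizer_sup_eq_top' S hSN
  rw [eq_top_iff, ← hfr]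
  refine sup_le (fun n hn => hCN (mem_cent.2 ?_)) le_rfl
  have hmem : n * z * n⁻¹ ∈ (S : Subgroup G) := (Subgroup.mem_normalizer_iff.1 hn z).1 (hQS h.hzQ)
  have hcom : ∀ s ∈ (S : Subgroup G), Commute (n * z * n⁻¹) s := fun s hs => by
    have hs' : n⁻¹ * s * n ∈ (S : Subgroup G) := (Subgroup.mem_normalizer_iff''.1 hn s).1 hs
    have := (Commute.conj_iff n).2 (hzS _ hs')
    rwa [show n * (n⁻¹ * s * n) * n⁻¹ = s by group] at this
  rcases hcenS _ hmem hcom with e | e
  · exact absurd (conj_eq_one_iff.1 e) h.z_ne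
  · exact mul_inv_eq_iff_eq_mul.1 e

end CfsgLib.CoOneJTwo
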