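import Cfsg.Agent.Lib.JTwoType.FiveMain
import Mathlib.GroupTheory.Transfer
import Mathlib.GroupTheory.SpecificGroups.Cyclic

/-!
# A central extension of a group of Hall–Janko type by a group of order five
-/

set_option autoImplicit false
set_option linter.style.haveILetI false
set_option maxRecDepth 4000

namespace CfsgLib.CoOneJTwo

open Subgroup

universe u v

variable {H : Type u} [Group H] [Finite H] {X : Type v} [Group X] [Finite X]

/-- The derived group avoids a central kernel of order five. -/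
theorem commutator_inf_ker (D : CfsgLib.JTwoType.Data X) (π : H →* X) (hπ : Function.Surjective π)
    (hc : π.ker ≤ Subgroup.center H) (h5 : Nat.card π.ker = 5) : π.ker ⊓ commutator H = ⊥ := by
  classical
  haveI : Fact (Nat.Prime 5) := ⟨by norm_num⟩
  obtain ⟨b, hb, hbo, P, hbP⟩ := D.exists_sylow5_b
  obtain ⟨i, hi, hib, hiN, -⟩ := D.exists_inverting hb hbo P hbP
  have hH : Nat.card H = 3024000 := by
    rw [← π.ker.card_mul_index, Subgroup.index_ker, MonoidHom.range_eq_top.2 hπ, Subgroup.card_top, h5, D.hG]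
  have hker5 : ∀ k ∈ π.ker, k ^ 5 = 1 := fun k hk =>
    orderOf_dvd_iff_pow_eq_one.1 (h5 ▸ Subgroup.orderOf_dvd_natCard _ hk)
  have hodd : ∀ k ∈ π.ker, k * k = 1 → k = 1 := fun k hk e => by
    have h := hker5 k hk
    rwa [show (5 : ℕ) = 2 + 2 + 1 from rfl, pow_succ, pow_add, pow_two, e, one_mul, one_mul] at h
  have hcc : ∀ k ∈ π.ker, ∀ y : H, Commute k y := fun k hk y => ((Subgroup.mem_center_iff.1 (hc hk) y).symm :)
  -- an involution over `i`
  have hii := CfsgLib.Invol.mul_self_eq_one hi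
  obtain ⟨h₀, hh₀⟩ := hπ i
  set I := h₀ ^ 5 with hIdef
  have hI : π I = i := by
    rw [hIdef, map_pow, hh₀, show (5 : ℕ) = 2 + 2 + 1 from rfl, pow_succ, pow_add, pow_two, hii, one_mul, one_mul]
  have hII : I * I = 1 := by
    rw [hIdef, ← pow_add, show 5 + 5 = 2 * 5 by rfl, pow_mul]
    refine hker5 _ ?_
    rw [MonoidHom.mem_ker, map_pow, hh₀, pow_two, hii]
  have hIi : I⁻¹ = I := inv_eq_of_mul_eq_one_left hII
  obtain ⟨β, hβ⟩ := hπ b
  -- `I` commutes with `β`
  have hIβ : Commute I β := by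
    have hc1 : I * β * I⁻¹ * β⁻¹ ∈ π.ker := by
      rw [MonoidHom.mem_ker, map_mul, map_mul, map_mul, map_inv, map_inv, hI, hβ, hib.eq,
        mul_inv_cancel_right, mul_inv_cancel]
    set c := I * β * I⁻¹ * β⁻¹ with hcdef
    have e1 : I * β * I⁻¹ = c * β := by rw [hcdef]; group
    have e2 : I * (c * β) * I⁻¹ = c * (c * β) := by
      rw [show I * (c * β) * I⁻¹ = (I * c) * β * I⁻¹ by group, ← (hcc c hc1 I).eq,
        show c * I * β * I⁻¹ = c * (I * β * I⁻¹) by group, e1]
    rw [← e1, show I * (I * β * I⁻¹) * I⁻¹ = (I * I) * β * (I * I)⁻¹ by group, hII, e1] at e2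
    have hcone : c = 1 := hodd c hc1 (mul_eq_right.1 (by
      rw [mul_assoc, ← e2, one_mul, inv_one, mul_one] : c * c * β = β))
    rw [hcone, one_mul] at e1
    exact mul_inv_eq_iff_eq_mul.1 e1
  -- the Sylow subgroup above `P`
  set T := (P : Subgroup X).comap π with hT
  have hTker : π.ker ≤ T := fun k hk => by
    show π k ∈ (P : Subgroup X)
    rw [MonoidHom.mem_ker.1 hk]; exact one_mem _
  have hT125 : Nat.card T = 125 := by
    have e1 := (π.ker.subgroupOf T).card_mul_index
    have e2 : (π.ker.subgroupOf T).index = 25 := by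
      have : π.ker.subgroupOf T = (π.subgroupComap (P : Subgroup X)).ker := by
        ext t
        rw [Subgroup.mem_subgroupOf, MonoidHom.mem_ker, MonoidHom.mem_ker]
        exact ⟨fun e => Subtype.ext e, fun e => congrArg Subtype.val e⟩
      rw [this, Subgroup.index_ker, MonoidHom.range_eq_top.2
        (MonoidHom.subgroupComap_surjective_of_surjective π _ hπ), Subgroup.card_top, D.sylow5_card P]
    rw [Nat.card_congr (Subgroup.subgroupOfEquivOfLe hTker).toEquiv, h5, e2] at e1
    exact e1.symm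
  have hβT : β ∈ T := by show π β ∈ (P : Subgroup X); rw [hβ]; exact hbP
  have hcomm : ∀ a ∈ T, Commute β a := by
    intro a ha
    have haP : π a ∈ (P : Subgroup X) := ha
    have hiaP : i * π a * i⁻¹ ∈ (P : Subgroup X) := (Subgroup.mem_normalizer_iff.1 hiN _).1 haP
    set e := a * (I * a * I⁻¹) with hedef
    have hd : π e ∈ zpowers b := by
      set d := π a * (i * π a * i⁻¹) with hddef
      have hPc := D.sylow5_comm P
      have hdP : d ∈ (P : Subgroup X) := mul_mem haP hiaP
      have hd25 : d ^ 25 = 1 := by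
        have := pow_card_eq_one' (x := (⟨d, hdP⟩ : (P : Subgroup X)))
        rw [D.sylow5_card P] at this
        exact congrArg Subtype.val this
      have hdi : Commute d i := by
        show d * i = i * d
        calc d * i = π a * i * π a := by rw [hddef]; group
          _ = (i * i) * π a * i * π a := by rw [hii, one_mul]
          _ = i * (i * π a * i * π a) := by group
          _ = i * (i * π a * i⁻¹ * π a) := by rw [CfsgLib.Invol.inv_eq_self hi]
          _ = i * d := by rw [hddef, hPc _ haP _ hiaP]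
      rw [hedef, map_mul, map_mul, map_mul, map_inv, hI]
      exact D.fixed_mem_zpowers hb hbo hi hib (hPc d hdP b hbP) hdi (n := 25) (by decide) hd25
    obtain ⟨k, hk⟩ := mem_zpowers_iff.1 hd
    have hek : β ^ (-k) * e ∈ π.ker := by
      rw [MonoidHom.mem_ker, map_mul, map_zpow, hβ, ← hk, zpow_neg, inv_mul_cancel]
    have heβ : Commute β e := by
      have := ((Commute.refl β).zpow_right k).mul_right (hcc _ hek β).symm
      rwa [← mul_assoc, ← zpow_add, add_neg_cancel, zpow_zero, one_mul] at this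
    have hc0 : β * a * β⁻¹ * a⁻¹ ∈ π.ker := by
      rw [MonoidHom.mem_ker, map_mul, map_mul, map_mul, map_inv, map_inv, hβ,
        D.sylow5_comm P b hbP _ haP, mul_inv_cancel_right, mul_inv_cancel]
    set c₀ := β * a * β⁻¹ * a⁻¹ with hc0def
    -- conjugating by `I`
    have e1 : I * c₀ * I⁻¹ = β * (I * a * I⁻¹) * β⁻¹ * (I * a * I⁻¹)⁻¹ := by
      calc I * c₀ * I⁻¹ = (I * β * I⁻¹) * (I * a * I⁻¹) * (I * β * I⁻¹)⁻¹ * (I * a * I⁻¹)⁻¹ := by
            rw [hc0def]; group
        _ = _ := by rw [hIβ.eq, mul_inv_cancel_right]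
    have e2 : I * a * I⁻¹ = a⁻¹ * e := by rw [hedef, inv_mul_cancel_left]
    have e3 : β * a * β⁻¹ = c₀ * a := by rw [hc0def]; group
    have e4 : I * c₀ * I⁻¹ = c₀⁻¹ := by
      rw [e1, e2, show β * (a⁻¹ * e) * β⁻¹ = (β * a * β⁻¹)⁻¹ * (β * e * β⁻¹) by group, e3, heβ.eq,
        mul_inv_cancel_right, mul_inv_rev, show a⁻¹ * c₀⁻¹ * e * (a⁻¹ * e)⁻¹ = a⁻¹ * c₀⁻¹ * a by group,
        mul_assoc, ((hcc c₀ hc0 a).inv_left).eq, inv_mul_cancel_left]
    have e5 : c₀ = c₀⁻¹ := by
      rw [← (hcc c₀ hc0 I).eq, mul_inv_cancel_right] at e4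
      exact e4
    have hc1 : c₀ = 1 := hodd c₀ hc0 (by nth_rw 2 [e5]; exact mul_inv_cancel c₀)
    rw [hc1, one_mul] at e3
    exact mul_inv_eq_iff_eq_mul.1 e3
  have habel : ∀ a ∈ T, ∀ c ∈ T, a * c = c * a := by
    have hZ : 5 ^ 2 ≤ Nat.card (Subgroup.center T) := by
      let Z : Subgroup T := π.ker.subgroupOf T ⊔ Subgroup.zpowers ⟨β, hβT⟩
      have hle : Z ≤ Subgroup.center T := sup_le
        (fun k hk => Subgroup.mem_center_iff.2 fun t => Subtype.ext (hcc _ hk t.1).symm.eq)
        (Subgroup.zpowers_le.2 (Subgroup.mem_center_iff.2 fun t => Subtype.ext (hcomm t.1 t.2).symm.eq))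
      have hne : π.ker.subgroupOf T < Z := by
        refine lt_of_le_of_ne le_sup_left fun e => ?_
        have h : (⟨β, hβT⟩ : T) ∈ π.ker.subgroupOf T := e ▸ Subgroup.mem_sup_right (Subgroup.mem_zpowers _)
        have hb1 : b = 1 := hβ ▸ MonoidHom.mem_ker.1 h
        rw [hb1, orderOf_one] at hbo
        norm_num at hbo
      have hZdvd : Nat.card Z ∣ 5 ^ 3 := by
        rw [show (5 : ℕ) ^ 3 = Nat.card T by rw [hT125]; norm_num]; exact Subgroup.card_subgroup_dvd_card _
      obtain ⟨n, hn, hn'⟩ := (Nat.dvd_prime_pow (by norm_num)).1 hZdvd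
      have h5' : Nat.card (π.ker.subgroupOf T) = 5 :=
        (Nat.card_congr (Subgroup.subgroupOfEquivOfLe hTker).toEquiv).trans h5
      have hlt : Nat.card (π.ker.subgroupOf T) < Nat.card Z := by
        refine lt_of_le_of_ne (Subgroup.card_le_of_le hne.le) fun e => hne.ne ?_
        exact Subgroup.eq_of_le_of_card_ge hne.le e.ge
      rw [h5', hn'] at hlt
      have : 2 ≤ n := by
        by_contra h2
        interval_cases n <;> omega
      refine le_trans ?_ (Subgroup.card_le_of_le hle)
      rw [hn']; exact Nat.pow_le_pow_right (by norm_num) this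
    have hmul := (Subgroup.center T).card_mul_index
    rw [hT125] at hmul
    have hidx : (Subgroup.center T).index ≤ 5 := by nlinarith
    haveI : IsCyclic (T ⧸ Subgroup.center T) := by
      have hd : Nat.card (T ⧸ Subgroup.center T) ∣ 5 ^ 3 := by
        rw [← Subgroup.index_eq_card]; exact ⟨Nat.card (Subgroup.center T), by rw [mul_comm, hmul]; norm_num⟩
      obtain ⟨n, hn, hn'⟩ := (Nat.dvd_prime_pow (by norm_num)).1 hd
      have hle5 : Nat.card (T ⧸ Subgroup.center T) ≤ 5 := by rw [← Subgroup.index_eq_card]; exact hidx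
      rw [hn'] at hle5
      interval_cases n
      · haveI := (Nat.card_eq_one_iff_unique.1 (hn'.trans (pow_zero 5))).1
        exact isCyclic_of_subsingleton
      · exact isCyclic_of_prime_card (p := 5) (hn'.trans (pow_one 5))
      all_goals norm_num at hle5
    exact fun a ha c hc => congrArg Subtype.val (commutative_of_cyclic_center_quotient
      (QuotientGroup.mk' (Subgroup.center T)) (by rw [QuotientGroup.ker_mk']) ⟨a, ha⟩ ⟨c, hc⟩)
  -- transfer
  rw [eq_bot_iff]
  rintro k ⟨hk, hk'⟩
  rw [Subgroup.mem_bot]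
  letI : CommGroup T := { (inferInstance : Group T) with mul_comm := fun a c => Subtype.ext (habel a a.2 c c.2) }
  let V : H →* T := MonoidHom.transfer (MonoidHom.id T)
  have h1 : V k = 1 := MonoidHom.mem_ker.1 (Abelianization.commutator_subset_ker V hk')
  have hkey : ∀ (n : ℕ) (g₀ : H), g₀⁻¹ * k ^ n * g₀ ∈ T → g₀⁻¹ * k ^ n * g₀ = k ^ n := fun n g₀ _ => by
    rw [mul_assoc, ((hcc k hk g₀).pow_left n).eq, inv_mul_cancel_left]
  have h2 := MonoidHom.transfer_eq_pow (MonoidHom.id T) k hkey
  rw [show V = MonoidHom.transfer (MonoidHom.id T) from rfl, h2] at h1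
  have h3 : k ^ T.index = 1 := congrArg Subtype.val h1
  have hidx : T.index = 24192 := by
    have := T.card_mul_index
    rw [hT125, hH] at this
    omega
  have h4 : k ^ 5 = 1 := hker5 k hk
  rw [hidx, show 24192 = 5 * 4838 + 2 by norm_num, pow_add, pow_mul, h4, one_pow, one_mul, pow_two] at h3
  exact hodd k hk h3

end CfsgLib.CoOneJTwo
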