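import Cfsg.Agent.Lib.CoOneJTwo.Fixed

/-!
# Involutions centralized by an element of order five
-/

set_option autoImplicit false
set_option linter.style.haveILetI false
set_option synthInstance.maxSize 20000
set_option maxRecDepth 10000
set_option linter.unusedSectionVars false

namespace CfsgLib.CoOneJTwo

open CfsgLib.Classical.Quad
open CfsgLib.SuzType (W4 q4 B4 zcases w4_add_self)

universe u

variable {G : Type u} [Group G]

/-- The square of an element of order four commuting with an element of order five. -/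
theorem Sys.sq_mem (S : Sys G) {t b a : G} (ht : S.K t) (h5 : b ^ 5 = 1) (h1 : b ≠ 1) (hbt : Commute b t)
    (hat : Commute a t) (hab : Commute a b) (h4 : a ^ 4 = 1) : a * a ∈ S.E t := by
  obtain ⟨π, M⟩ := S.model t ht
  obtain ⟨σ, -, hσ, hσ5, hσ1⟩ := M.acts_five h5 h1 hbt
  obtain ⟨α, hαE, hα⟩ := M.act a hat
  have hα4 : α ^ 4 = 1 := by
    have := M.acts_pow hα 4
    rw [h4] at this
    exact M.acts_unique this M.acts_one
  exact M.faith _ (sq_of_comm_five hσ5 hσ1 hαE hα4 (M.acts_commute hσ hα hab.symm) ▸ M.acts_mul hα hα)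

/-- The action of the two components of the isometry fixing a singular vector. -/
theorem exists_nonsing : ∀ w : W4, ∃ e : W4, q4 e = 1 ∧ B4 e w = 0 := by decide

namespace Adapted

variable {S : Sys G} {s b : G} {π : G → V8} (A : Adapted S s b π)
include A

/-- The relation of membership is symmetric. -/
theorem mem_symm {u : G} (hK : S.K u) (hu : u ∈ S.E s) (hbu : Commute b u) : s ∈ S.E u := by
  obtain ⟨e, he, he'⟩ := exists_nonsing (π u).1
  obtain ⟨a, ha, haπ, hba⟩ := A.exists_fixed_lift e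
  have hau : Commute a u := (A.model.commute_iff ha hu).2 (by
    rw [haπ, B8, he', A.snd_of_commute hu hbu]; simp)
  have haa : a * a = s := by rw [A.model.square a ha, haπ, q8, he]; exact pw_one s
  have := S.sq_mem hK A.five A.ne hbu hau hba.symm (A.model.pow_four ha)
  rwa [haa] at this

end Adapted

/-- Even involutions of the four-dimensional space. -/
theorem invol_facts : ∀ p : Equiv.Perm (Fin 5), Equiv.Perm.sign p = 1 → p * p = 1 → p ≠ 1 →
    ∃ w : W4, w ≠ 0 ∧ q4 w = 0 ∧ lin p w = w ∧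
      (∀ a, lin p (lin p a + a) = lin p a + a) ∧
      (∀ a, lin p a = a → (∃ c, lin p c + c = a)) ∧
      ∀ a, lin p a = a → q4 a = 0 → a = 0 ∨ a = w := by decide +kernel

/-- An isometry moving every vector inside a singular line is trivial. -/
theorem eq_one_of_line {k : Orth Q8} {w : V8} (hw : q8 w = 0)
    (h : ∀ y, k.1 y = y ∨ k.1 y = y + w) : k = 1 := by
  refine orth_ext fun y => ?_
  rw [one_apply]
  by_contra hy
  have hy' := (h y).resolve_left hy
  have hw0 : w ≠ 0 := fun e => hy (by rw [hy', e, add_zero])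
  have hperp : ∀ v, k.1 v = v + w → B8 v w = 0 := fun v hv => by
    have := q8_g k v
    rw [hv, q8_add, hw, add_zero] at this
    exact add_eq_left.1 this
  obtain ⟨z, hz⟩ : ∃ z, B8 z w = 1 := by
    by_contra! hall
    refine hw0 (nd8 w fun z => ?_)
    rw [polar_Q8, B8_comm]
    exact (zcases _).resolve_right (hall z)
  have hkz : k.1 z = z := (h z).resolve_right fun e => absurd ((hperp z e).symm.trans hz) (by decide)
  have hsum : k.1 (y + z) = y + z + w := by rw [g8_add, hy', hkz]; abel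
  have := hperp _ hsum
  rw [B8_add_left, hperp y hy', hz, zero_add] at this
  exact absurd this (by decide)

/-- Two isometries inducing the identity along a short chain commute. -/
theorem comm_of_chain {g h : Orth Q8} {w : V8} (hw : q8 w = 0) (F : AddSubgroup V8)
    (hgV : ∀ x, g.1 x + x ∈ F) (hhV : ∀ x, h.1 x + x ∈ F)
    (hgF : ∀ x ∈ F, g.1 x + x = 0 ∨ g.1 x + x = w) (hhF : ∀ x ∈ F, h.1 x + x = 0 ∨ h.1 x + x = w) :
    Commute g h := by
  show g * h = h * g
  refine mul_inv_eq_one.1 (eq_one_of_line hw fun y => ?_)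
  obtain ⟨v, rfl⟩ : ∃ v, (h * g).1 v = y := ⟨_, self_apply_inv _ y⟩
  rw [mul_apply (g * h) (h * g)⁻¹, inv_apply_self]
  have e : (g * h).1 v = (h * g).1 v + ((g.1 (h.1 v + v) + (h.1 v + v)) + (h.1 (g.1 v + v) + (g.1 v + v))) := by
    rw [mul_apply, mul_apply, g8_add, g8_add,
      show h.1 (g.1 v) + (g.1 (h.1 v) + g.1 v + (h.1 v + v) + (h.1 (g.1 v) + h.1 v + (g.1 v + v))) =
        g.1 (h.1 v) + ((h.1 (g.1 v) + h.1 (g.1 v)) + (g.1 v + g.1 v) + (h.1 v + h.1 v) + (v + v)) by abel,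
      v8_add_self, v8_add_self, v8_add_self, v8_add_self]
    simp only [add_zero, zero_add, v8_add_self]
  rw [e]
  rcases hgF _ (hhV v) with e1 | e1 <;> rcases hhF _ (hgV v) with e2 | e2 <;> rw [e1, e2]
  · left; rw [add_zero, add_zero]
  · right; rw [zero_add]
  · right; rw [add_zero]
  · left; rw [v8_add_self, add_zero]

namespace Adapted

variable {S : Sys G} {s b : G} {π : G → V8} (A : Adapted S s b π)
include A

/-- The elements of `E s` with image in the second summand. -/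
def sndPart : Subgroup G where
  carrier := {q | q ∈ S.E s ∧ (π q).1 = 0}
  one_mem' := ⟨(S.E s).one_mem, by rw [A.model.map_one]; rfl⟩
  mul_mem' := by
    rintro p q ⟨hp, hp'⟩ ⟨hq, hq'⟩
    exact ⟨(S.E s).mul_mem hp hq, by rw [A.model.map_mul p hp q hq, Prod.fst_add, hp', hq', add_zero]⟩
  inv_mem' := by
    rintro p ⟨hp, hp'⟩
    exact ⟨(S.E s).inv_mem hp, by rw [A.model.map_inv hp]; exact hp'⟩

theorem mem_sndPart {q : G} : q ∈ A.sndPart ↔ q ∈ S.E s ∧ (π q).1 = 0 := Iff.rfl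

theorem s_mem_sndPart : s ∈ A.sndPart := ⟨A.model.mem, by rw [A.model.map_s]; rfl⟩

theorem conj_sndPart {q : G} (hq : q ∈ A.sndPart) : b * q * b⁻¹ ∈ A.sndPart :=
  ⟨A.model.normal b A.comm q hq.1, by rw [A.acts.2 q hq.1, b2_apply]; exact hq.2⟩

theorem conj_sndPart' {q : G} (hq : q ∈ A.sndPart) : b⁻¹ * q * b ∈ A.sndPart := by
  have hb : b⁻¹ = b ^ 4 := inv_eq_of_mul_eq_one_left (by rw [← pow_succ, A.five])
  have h4 : ∀ n : ℕ, b ^ n * q * (b ^ n)⁻¹ ∈ A.sndPart := by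
    intro n
    induction n with
    | zero => simpa using hq
    | succ n ih =>
      rw [show b ^ (n + 1) * q * (b ^ (n + 1))⁻¹ = b * (b ^ n * q * (b ^ n)⁻¹) * b⁻¹ by
        rw [pow_succ']; group]
      exact A.conj_sndPart ih
  have := h4 4
  rwa [← hb, inv_inv] at this

theorem sndPart_eq {q : G} (hq : q ∈ A.sndPart) :
    ∃ r ∈ A.sndPart, ∃ c : ZMod 2, q = b * r * b⁻¹ * r⁻¹ * pw s c := by
  obtain ⟨y, hy⟩ := f4_surj (π q).2
  obtain ⟨r, hr, hrπ⟩ := A.model.surj (0, y)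
  have hr' : r ∈ A.sndPart := ⟨hr, by rw [hrπ]⟩
  have hm := A.model.normal b A.comm r hr
  have he : π (b * r * b⁻¹ * r⁻¹) = π q := by
    rw [A.model.map_mul _ hm _ ((S.E s).inv_mem hr), A.model.map_inv hr, A.acts.2 r hr, hrπ, b2_apply]
    exact Prod.ext (by rw [Prod.fst_add, hq.2, add_zero]) (by rw [Prod.snd_add, hy])
  rcases A.model.eq_of_map hq.1 ((S.E s).mul_mem hm ((S.E s).inv_mem hr)) he.symm with e | e
  · exact ⟨r, hr', 0, by rw [pw_zero, mul_one]; exact e⟩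
  · exact ⟨r, hr', 1, by rw [pw_one]; exact e⟩

/-- Elements acting on the second summand as the identity centralize its preimage. -/
theorem commute_sndPart {x : G} {g1 : Orth Q4} (hx : Acts s (S.E s) π x (inj (g1, 1))) (hxb : Commute x b)
    {q : G} (hq : q ∈ A.sndPart) : Commute x q := by
  obtain ⟨r, hr, c, rfl⟩ := A.sndPart_eq hq
  have h1 : π (x * r * x⁻¹) = π r := by
    rw [hx.2 r hr.1, inj_apply, one_apply, hr.2, map_zero]
    exact Prod.ext hr.2.symm rfl
  obtain ⟨e, he⟩ : ∃ e : ZMod 2, x * r * x⁻¹ = r * pw s e := by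
    rcases A.model.eq_of_map (A.model.normal x hx.1 r hr.1) hr.1 h1 with e | e
    · exact ⟨0, by rw [pw_zero, mul_one]; exact e⟩
    · exact ⟨1, by rw [pw_one]; exact e⟩
  refine Commute.mul_right (conj_eq_iff_commute.1 ?_) (commute_pw hx.1 c)
  calc x * (b * r * b⁻¹ * r⁻¹) * x⁻¹
      = x * b * x⁻¹ * (x * r * x⁻¹) * (x * b * x⁻¹)⁻¹ * (x * r * x⁻¹)⁻¹ := by group
    _ = b * (r * pw s e) * b⁻¹ * (r * pw s e)⁻¹ := by rw [he, conj_eq_iff_commute.2 hxb]
    _ = b * r * (pw s e * b⁻¹ * (pw s e)⁻¹) * r⁻¹ := by group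
    _ = b * r * b⁻¹ * r⁻¹ := by
      rw [((commute_pw A.comm e).inv_left).symm.eq, mul_inv_cancel_right]

theorem exists_sndPart_pair : ∃ q₁ ∈ A.sndPart, ∃ q₂ ∈ A.sndPart, q₁ * q₂ = q₂ * q₁ * s := by
  obtain ⟨y₁, y₂, h⟩ := (⟨sv 0, sv 1, by decide⟩ : ∃ y₁ y₂ : W4, B4 y₁ y₂ = 1)
  obtain ⟨q₁, hq₁, e₁⟩ := A.model.surj (0, y₁)
  obtain ⟨q₂, hq₂, e₂⟩ := A.model.surj (0, y₂)
  refine ⟨q₁, ⟨hq₁, by rw [e₁]⟩, q₂, ⟨hq₂, by rw [e₂]⟩, ?_⟩
  have := A.model.swap q₁ hq₁ q₂ hq₂
  rwa [e₁, e₂, B8, h, show B4 (0 : W4) 0 = 0 from rfl, zero_add, pw_one] at this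

set_option maxHeartbeats 4000000 in
/-- An involution outside `E s` centralizing `b` is not in the class. -/
theorem not_K [Finite G] {x : G} (hxs : Commute x s) (hxb : Commute x b) (hxx : x * x = 1)
    (hxE : x ∉ S.E s) : ¬ S.K x := by
  intro hK
  classical
  haveI : Fact (Nat.Prime 2) := ⟨Nat.prime_two⟩
  obtain ⟨π', M⟩ := S.model x hK
  have hxs' : s ≠ x := fun e => hxE (e ▸ A.model.mem)
  have hsE : s ∉ S.E x := fun h => by
    obtain ⟨π'', A'⟩ := S.exists_adapted_of_mem hK A.five A.ne hxb.symm h A.model.ne_one hxs' A.comm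
    exact hxE (A'.mem_symm A.Ks h A.comm)
  obtain ⟨g1, i, -, hx⟩ := A.image hxs hxb
  have hfi : f4 ^ i = 1 := by
    have h2 := A.model.acts_mul hx hx
    rw [hxx, ← map_mul] at h2
    have h3 := inj_injective ((A.model.acts_unique h2 A.model.acts_one).trans (map_one inj).symm)
    have e2 : f4 ^ i * f4 ^ i = 1 := congrArg Prod.snd h3
    have e5 : (f4 ^ i) ^ 5 = 1 := by rw [← pow_mul, mul_comm, pow_mul, f4_five, one_pow]
    rwa [show (f4 ^ i) ^ 5 = (f4 ^ i * f4 ^ i) * (f4 ^ i * f4 ^ i) * f4 ^ i by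
      simp only [pow_succ, pow_zero, one_mul, mul_assoc], e2, one_mul, one_mul] at e5
  rw [hfi] at hx
  have hcx : ∀ q ∈ A.sndPart, Commute q x := fun q hq => (A.commute_sndPart hx hxb hq).symm
  -- change coordinates at `x` so that `b` is standard when it has a fixed vector
  obtain ⟨σ₀, -, hσ₀, hσ₀5, hσ₀1⟩ := M.acts_five A.five A.ne hxb.symm
  suffices hmain : ∀ (π' : G → V8) (σ : Orth Q8), Model x (S.E x) π' → Acts x (S.E x) π' b σ → σ ^ 5 = 1 →
      (σ = b2 ∨ ∀ v, σ.1 v = v → v = 0) → False by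
    by_cases hfix : ∃ v, v ≠ 0 ∧ σ₀.1 v = v
    · obtain ⟨v, hv, hv'⟩ := hfix
      obtain ⟨k, hk, e⟩ := conj_b2 hσ₀5 hσ₀1 hv hv'
      exact hmain (fun y => k.1 (π' y)) b2 (M.comp hk) ⟨hσ₀.1, fun y hy => by
        show k.1 (π' (b * y * b⁻¹)) = b2.1 (k.1 (π' y))
        rw [hσ₀.2 y hy, ← e, mul_apply, mul_apply, inv_apply_self]⟩ b2_five (Or.inl rfl)
    · push Not at hfix
      exact hmain π' σ₀ M hσ₀ hσ₀5 (Or.inr fun v hv => by_contra fun h => hfix v h hv)
  clear hσ₀ hσ₀5 hσ₀1 σ₀ M π'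
  intro π' σ M hσ hσ5 hcase
  choose γ hγE hγ using fun q : A.sndPart => M.act q.1 (hcx q.1 q.2)
  let Γ : A.sndPart →* Orth Q8 := MonoidHom.mk' γ fun p q =>
    M.acts_unique (hγ (p * q)) (M.acts_mul (hγ p) (hγ q))
  set sQ : A.sndPart := ⟨s, A.s_mem_sndPart⟩
  set ζ := Γ sQ with hζ
  have hζa : Acts x (S.E x) π' s ζ := hγ sQ
  have hζ1 : ζ ≠ 1 := fun e => hsE (M.faith s (e ▸ hζa))
  have hζ2 : ζ * ζ = 1 := by
    rw [hζ, ← map_mul, show sQ * sQ = 1 from Subtype.ext A.model.sq_one, map_one]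
  have hσζ : Commute σ ζ := M.acts_commute hσ hζa A.comm
  have hΓζ : ∀ q, Commute (Γ q) ζ := fun q =>
    M.acts_commute (hγ q) hζa (A.model.le_cent q.1 q.2.1)
  let cj : A.sndPart → A.sndPart := fun q => ⟨b * q.1 * b⁻¹, A.conj_sndPart q.2⟩
  have hΓcj : ∀ q, Γ (cj q) = σ * Γ q * σ⁻¹ := fun q =>
    M.acts_unique (hγ (cj q)) (M.acts_conj hσ (hγ q))
  have hσΓ : ∀ q, ∀ v, (Γ q).1 (σ.1 v) = σ.1 ((Γ ⟨b⁻¹ * q.1 * b, A.conj_sndPart' q.2⟩).1 v) := fun q v => by
    have := hΓcj ⟨b⁻¹ * q.1 * b, A.conj_sndPart' q.2⟩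
    rw [show cj ⟨b⁻¹ * q.1 * b, A.conj_sndPart' q.2⟩ = q from Subtype.ext (by show b * (b⁻¹ * q.1 * b) * b⁻¹ = q.1; group)] at this
    rw [this]
    simp only [mul_apply, inv_apply_self]
  have hP : IsPGroup 2 A.sndPart := fun q => ⟨2, Subtype.ext (by
    rw [SubmonoidClass.coe_pow]; exact A.model.pow_four q.2.1)⟩
  suffices hcomm : ∀ p q, Commute (Γ p) (Γ q) by
    obtain ⟨q₁, hq₁, q₂, hq₂, e⟩ := A.exists_sndPart_pair
    refine hζ1 ?_
    have h := congrArg Γ (show (⟨q₁, hq₁⟩ : A.sndPart) * ⟨q₂, hq₂⟩ = ⟨q₂, hq₂⟩ * ⟨q₁, hq₁⟩ * sQ from Subtype.ext e)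
    rw [map_mul, map_mul, map_mul, (hcomm _ _).eq] at h
    exact mul_eq_left.1 h.symm
  set F := (dd ζ).ker with hFdef
  have hmemF : ∀ v, v ∈ F ↔ ζ.1 v = v := fun v => by
    rw [hFdef, AddMonoidHom.mem_ker, dd_apply]
    exact ⟨fun h => (v8_add_eq h).trans (zero_add v), fun h => by rw [h, v8_add_self]⟩
  have hRF : ∀ v, dd ζ v ∈ F := fun v => by
    rw [hFdef, AddMonoidHom.mem_ker, dd_dd, hζ2, one_apply, v8_add_self]
  have hΓV : (∀ q v, (Γ q).1 (dd ζ v) = dd ζ v) → ∀ q v, (Γ q).1 v + v ∈ F := fun hK q v => by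
    rw [hFdef, AddMonoidHom.mem_ker, map_add, ← dd_comm (hΓζ q), hK q v, v8_add_self]
  have hΓF : ∀ q v, v ∈ F → (Γ q).1 v ∈ F := fun q v hv => (ker_iff (hΓζ q) v).1 hv
  rcases hcase with rfl | hfree
  · -- `b` fixes a vector
    obtain ⟨z1, j, hz1, hz⟩ := cent_b2_mem (hγE sQ) hσζ.symm
    have hz' : ζ = inj (z1, f4 ^ j) := hz
    have h22 := inj_injective ((map_mul inj (z1, f4 ^ j) (z1, f4 ^ j)).trans
      ((hz' ▸ hζ2).trans (map_one inj).symm))
    have hz11 : z1 * z1 = 1 := congrArg Prod.fst h22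
    have hfj : f4 ^ j = 1 := by
      have e2 : f4 ^ j * f4 ^ j = 1 := congrArg Prod.snd h22
      have e5 : (f4 ^ j) ^ 5 = 1 := by rw [← pow_mul, mul_comm, pow_mul, f4_five, one_pow]
      rwa [show (f4 ^ j) ^ 5 = (f4 ^ j * f4 ^ j) * (f4 ^ j * f4 ^ j) * f4 ^ j by
        simp only [pow_succ, pow_zero, one_mul, mul_assoc], e2, one_mul, one_mul] at e5
    rw [hfj] at hz'
    have hz1ne : z1 ≠ 1 := fun e => hζ1 (by rw [hz', e]; exact map_one inj)
    obtain ⟨w, hw0, hwq, hww, hp1, hp2, hp3⟩ := invol_facts (perm z1) hz1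
      (by rw [← map_mul, hz11, map_one]) (fun e => hz1ne (perm_injective (e.trans (map_one perm).symm)))
    simp only [← apply_eq_lin] at hww hp1 hp2 hp3
    have hdd : ∀ v, dd ζ v = (z1.1 v.1 + v.1, 0) := fun v => by
      rw [dd_apply, hz', inj_apply, one_apply]
      exact Prod.ext rfl (w4_add_self _)
    have hmemF' : ∀ v, v ∈ F ↔ z1.1 v.1 = v.1 := fun v => by
      rw [hmemF, hz', inj_apply, one_apply]
      exact ⟨congrArg Prod.fst, fun h => Prod.ext h rfl⟩
    have hline : ∀ a, z1.1 a = a → ((a, 0) : V8) ∈ (dd ζ).range := fun a ha => by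
      obtain ⟨c, hc⟩ := hp2 a ha
      exact ⟨(c, 0), by rw [hdd]; exact Prod.ext hc rfl⟩
    have hrange : ∀ {v}, v ∈ (dd ζ).range → v.2 = 0 := by
      rintro _ ⟨c, rfl⟩; rw [hdd]
    -- trivial on the commutator of `ζ`
    have hK : ∀ q v, (Γ q).1 (dd ζ v) = dd ζ v := by
      intro q v
      have hinv : ∀ p v, (Γ p).1 (dd ζ v) ∈ (dd ζ).range := fun p v =>
        (range_iff (hΓζ p) _).1 ⟨v, rfl⟩
      have hbfix : ∀ v ∈ (dd ζ).range, b2.1 v = v := fun v hv => by
        rw [b2_apply, hrange hv, map_zero]; exact Prod.ext rfl (hrange hv).symm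
      obtain ⟨r, hr, c, hq⟩ := A.sndPart_eq q.2
      rw [show q = cj ⟨r, hr⟩ * (⟨r, hr⟩ : A.sndPart)⁻¹ * ⟨pw s c, by
        rcases zcases c with rfl | rfl
        · rw [pw_zero]; exact one_mem _
        · rw [pw_one]; exact A.s_mem_sndPart⟩ from Subtype.ext hq, map_mul, map_mul, hΓcj, map_inv]
      have hpw : ∀ h : pw s c ∈ A.sndPart, (Γ ⟨pw s c, h⟩).1 (dd ζ v) = dd ζ v := fun h => by
        rcases zcases c with rfl | rfl
        · rw [show (⟨pw s 0, h⟩ : A.sndPart) = 1 from Subtype.ext (pw_zero s), map_one, one_apply]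
        · rw [show (⟨pw s 1, h⟩ : A.sndPart) = sQ from Subtype.ext (pw_one s)]
          exact (hmemF _).1 (hRF v)
      rw [mul_apply, hpw, mul_apply, mul_apply, mul_apply]
      obtain ⟨v', hv'⟩ : ((Γ ⟨r, hr⟩)⁻¹).1 (dd ζ v) ∈ (dd ζ).range := by
        have := hinv (⟨r, hr⟩ : A.sndPart)⁻¹ v
        rwa [map_inv] at this
      have hσi : (b2⁻¹).1 (((Γ ⟨r, hr⟩)⁻¹).1 (dd ζ v)) = ((Γ ⟨r, hr⟩)⁻¹).1 (dd ζ v) := by
        conv_lhs => rw [← hv', ← hbfix _ ⟨v', rfl⟩]
        rw [inv_apply_self, hv']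
      rw [hσi, self_apply_inv]
      exact hbfix _ ⟨v, rfl⟩
    -- trivial between the fixed space and the commutator
    let τ : A.sndPart → W4 → W4 := fun q y => ((Γ q).1 (0, y)).2
    have hτmul : ∀ p q y, τ (p * q) y = τ p (τ q y) := fun p q y => by
      have hF' : (Γ q).1 (0, y) ∈ F := hΓF q _ ((hmemF' _).2 (map_zero _))
      have hl := hline _ ((hmemF' _).1 hF')
      obtain ⟨c, hc⟩ := hl
      show ((Γ (p * q)).1 (0, y)).2 = ((Γ p).1 (0, ((Γ q).1 (0, y)).2)).2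
      rw [map_mul, mul_apply]
      conv_lhs => rw [show (Γ q).1 (0, y) = dd ζ c + (0, ((Γ q).1 (0, y)).2) by
        rw [hc]; simp, g8_add, hK]
      rw [Prod.snd_add, hrange ⟨c, rfl⟩, zero_add]
    have hτone : ∀ y, τ 1 y = y := fun y => by show ((Γ 1).1 (0, y)).2 = y; rw [map_one, one_apply]
    let ρ : A.sndPart →* Equiv.Perm W4 :=
      { toFun := fun q =>
          { toFun := τ q
            invFun := τ q⁻¹
            left_inv := fun y => by rw [← hτmul, inv_mul_cancel, hτone]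
            right_inv := fun y => by rw [← hτmul, mul_inv_cancel, hτone] }
        map_one' := Equiv.ext hτone
        map_mul' := fun p q => Equiv.ext (hτmul p q) }
    obtain ⟨y0, hy0, hy0'⟩ := exists_other_fix hP ρ (x₀ := (0 : W4)) (fun q => by
      show ((Γ q).1 (0, 0)).2 = 0
      rw [show ((0, 0) : V8) = 0 from rfl, g8_zero]; rfl) (by simp [W4])
    have hτfix : ∀ q y, τ q y = y := by
      intro q y
      refine f4_irred hy0 {y | ∀ q, τ q y = y} ?_ hy0' ?_ ?_ y q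
      · intro q; show ((Γ q).1 (0, 0)).2 = 0; rw [show ((0, 0) : V8) = 0 from rfl, g8_zero]; rfl
      · intro a ha c hc q
        show ((Γ q).1 (0, a + c)).2 = a + c
        rw [show ((0, a + c) : V8) = (0, a) + (0, c) by simp, g8_add, Prod.snd_add]
        exact congrArg₂ (· + ·) (ha q) (hc q)
      · intro a ha q
        show ((Γ q).1 (0, f4.1 a)).2 = f4.1 a
        rw [show ((0, f4.1 a) : V8) = b2.1 (0, a) by rw [b2_apply], hσΓ, b2_apply]
        exact congrArg f4.1 (ha _)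
    have hFstep : ∀ q, ∀ v ∈ F, (Γ q).1 v + v = 0 ∨ (Γ q).1 v + v = (w, 0) := by
      intro q v hv
      have ha := hline _ ((hmemF' v).1 hv)
      obtain ⟨c, hc⟩ := ha
      have hsplit : (Γ q).1 v + v = (Γ q).1 (0, v.2) + (0, v.2) := by
        conv_lhs => rw [show v = dd ζ c + (0, v.2) by rw [hc]; simp, g8_add, hK]
        rw [show dd ζ c + (Γ q).1 (0, v.2) + (dd ζ c + (0, v.2)) =
          (dd ζ c + dd ζ c) + ((Γ q).1 (0, v.2) + (0, v.2)) by abel, v8_add_self, zero_add]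
      rw [hsplit]
      have h2 : ((Γ q).1 (0, v.2) + (0, v.2)).2 = 0 := by
        rw [Prod.snd_add]
        show τ q v.2 + v.2 = 0
        rw [hτfix, w4_add_self]
      have hq8 := q8_g (Γ q) (0, v.2)
      have hsnd : ((Γ q).1 (0, v.2)).2 = v.2 := hτfix q v.2
      rw [q8, q8, hsnd, add_left_inj] at hq8
      have h1 := (hmemF' _).1 (hΓF q _ ((hmemF' (0, v.2)).2 (map_zero _)))
      rcases hp3 _ h1 hq8 with e | e
      · left; exact Prod.ext (by rw [Prod.fst_add, e]; rfl) h2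
      · right; exact Prod.ext (by rw [Prod.fst_add, e]; exact add_zero w) h2
    intro p q
    exact comm_of_chain (w := (w, 0)) (by rw [q8, hwq]; rfl) F (hΓV hK p) (hΓV hK q) (hFstep p) (hFstep q)
  · -- `b` has no fixed vector
    obtain ⟨h16, hRK⟩ := range_eq_ker hσ5 hfree hσζ
      (by rw [show (4 : ℕ) = 2 + 2 from rfl, pow_add, pow_two, hζ2, one_mul]) hζ1
    have hF16 : Nat.card F = 16 := by rw [hFdef, ← hRK, h16]
    let ρ : A.sndPart →* Equiv.Perm F :=
      { toFun := fun q =>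
          { toFun := fun v => ⟨(Γ q).1 v.1, hΓF q _ v.2⟩
            invFun := fun v => ⟨((Γ q)⁻¹).1 v.1, by rw [← map_inv]; exact hΓF _ _ v.2⟩
            left_inv := fun v => Subtype.ext (inv_apply_self _ _)
            right_inv := fun v => Subtype.ext (self_apply_inv _ _) }
        map_one' := Equiv.ext fun v => Subtype.ext (by show (Γ 1).1 v.1 = v.1; rw [map_one, one_apply])
        map_mul' := fun p q => Equiv.ext fun v => Subtype.ext (by
          show (Γ (p * q)).1 v.1 = (Γ p).1 ((Γ q).1 v.1); rw [map_mul, mul_apply]) }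
    obtain ⟨y0, hy0, hy0'⟩ := exists_other_fix hP ρ (x₀ := (0 : F)) (fun q => Subtype.ext (g8_zero _))
      (by rw [hF16]; norm_num)
    let Fx : AddSubgroup V8 :=
      { carrier := {v | v ∈ F ∧ ∀ q, (Γ q).1 v = v}
        zero_mem' := ⟨F.zero_mem, fun q => g8_zero _⟩
        add_mem' := fun {a c} ha hc => ⟨F.add_mem ha.1 hc.1, fun q => by rw [g8_add, ha.2, hc.2]⟩
        neg_mem' := fun {a} ha => ⟨F.neg_mem ha.1, fun q => by rw [map_neg, ha.2]⟩ }
    have hFxσ : ∀ v, v ∈ Fx ↔ σ.1 v ∈ Fx := by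
      intro v
      constructor
      · rintro ⟨h1, h2⟩
        exact ⟨(ker_iff hσζ v).1 h1, fun q => by rw [hσΓ, h2]⟩
      · rintro ⟨h1, h2⟩
        refine ⟨(ker_iff hσζ v).2 h1, fun q => σ.1.injective ?_⟩
        have := h2 (cj q)
        rwa [hΓcj, mul_apply, mul_apply, inv_apply_self] at this
    have hle : Fx ≤ F := fun v hv => hv.1
    have h16' := AddSubgroup.card_le_of_le hle
    have hFx : F ≤ Fx := by
      rcases inv_card hσ5 hfree Fx hFxσ with e | e | e
      · exfalso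
        refine hy0 (Subtype.ext ?_)
        have hb : Fx = ⊥ := AddSubgroup.eq_bot_of_card_eq _ e
        exact AddSubgroup.mem_bot.1 (hb.le ⟨y0.2, fun q => congrArg Subtype.val (hy0' q)⟩)
      · exact (AddSubgroup.eq_of_le_of_card_ge hle (by rw [e, hF16])).ge
      · omega
    have hK : ∀ q v, (Γ q).1 (dd ζ v) = dd ζ v := fun q v => (hFx (hRF v)).2 q
    intro p q
    exact comm_of_chain (w := 0) rfl F (hΓV hK p) (hΓV hK q)
      (fun v hv => Or.inl (by rw [(hFx hv).2 p, v8_add_self]))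
      (fun v hv => Or.inl (by rw [(hFx hv).2 q, v8_add_self]))

end Adapted

end CfsgLib.CoOneJTwo
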