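import Cfsg.Agent.Lib.CoOneJTwo.Classes

/-!
# The class inside the extraspecial subgroups
-/

set_option autoImplicit false
set_option linter.style.haveILetI false
set_option linter.unusedSectionVars false
set_option synthInstance.maxSize 20000
set_option maxRecDepth 10000

namespace CfsgLib.CoOneJTwo

open CfsgLib.Classical.Quad
open CfsgLib.SuzType (W4 q4 B4 zcases)

universe u

variable {G : Type u} [Group G]

theorem refl8 {a : V8} (ha : q8 a = 1) (x : V8) : (refl Q8 a).1 x = x + B8 x a • a := by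
  rw [refl_apply, polar_Q8, Q8_apply, ha, div_one, CharTwo.neg_eq]

/-- The commutator subgroup is transitive on singular vectors. -/
theorem ev_transitive {s t : V8} (hs : q8 s = 0) (hs0 : s ≠ 0) (ht : q8 t = 0) (ht0 : t ≠ 0) :
    ∃ g ∈ Ev, g.1 s = t := by
  have hstep : ∀ {s t : V8}, q8 s = 0 → q8 t = 0 → B8 s t = 1 →
      q8 (s + t) = 1 ∧ (refl Q8 (s + t)).1 s = t := by
    intro s t hs ht hst
    have hq : q8 (s + t) = 1 := by rw [q8_add, hs, ht, hst]; decide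
    refine ⟨hq, ?_⟩
    rw [refl8 hq, B8_add_right, B8_self, hst, zero_add, one_smul, ← add_assoc, v8_add_self, zero_add]
  have hpair : ∀ {a b : V8}, q8 a = 1 → q8 b = 1 → refl Q8 a * refl Q8 b ∈ Ev := fun ha hb => by
    rw [Subgroup.mul_mem_iff_of_index_two index_Ev]
    exact iff_of_false (refl_not_mem ha) (refl_not_mem hb)
  by_cases hst : B8 s t = 1
  · obtain ⟨e, he, he'⟩ := exists_nonsing t.1
    have hc : q8 ((e, 0) : V8) = 1 := by rw [q8, he]; rfl
    obtain ⟨hq, hm⟩ := hstep hs ht hst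
    refine ⟨refl Q8 ((e, 0) : V8) * refl Q8 (s + t), hpair hc hq, ?_⟩
    rw [mul_apply, hm, refl8 hc, show B8 t ((e, 0) : V8) = 0 by
      rw [B8, CfsgLib.SuzType.B4_comm, he']; simp, zero_smul, add_zero]
  by_cases hne : s = t
  · exact ⟨1, Ev.one_mem, by rw [one_apply, hne]⟩
  have hst0 : B8 s t = 0 := (zcases _).resolve_right hst
  have hex : ∀ v : V8, v ≠ 0 → ∃ a, B8 a v = 1 := fun v hv => by
    by_contra! hall
    exact hv (nd8 v fun a => by rw [polar_Q8, B8_comm]; exact (zcases _).resolve_right (hall a))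
  obtain ⟨a, ha1, ha2⟩ : ∃ a, B8 a s = 1 ∧ B8 a t = 1 := by
    obtain ⟨a1, h1⟩ := hex s hs0
    obtain ⟨a2, h2⟩ := hex t ht0
    rcases zcases (B8 a1 t) with e1 | e1
    · rcases zcases (B8 a2 s) with e2 | e2
      · exact ⟨a1 + a2, by rw [B8_add_left, h1, e2, add_zero], by rw [B8_add_left, e1, h2, zero_add]⟩
      · exact ⟨a2, e2, h2⟩
    · exact ⟨a1, h1, e1⟩
  obtain ⟨y, hy, hys, hyt⟩ : ∃ y, q8 y = 0 ∧ B8 y s = 1 ∧ B8 y t = 1 := by
    rcases zcases (q8 a) with e | e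
    · exact ⟨a, e, ha1, ha2⟩
    · exact ⟨a + s, by rw [q8_add, e, hs, ha1]; decide, by rw [B8_add_left, ha1, B8_self, add_zero],
        by rw [B8_add_left, ha2, hst0, add_zero]⟩
  obtain ⟨h1, e1⟩ := hstep hs hy (by rw [B8_comm, hys])
  obtain ⟨h2, e2⟩ := hstep hy ht hyt
  exact ⟨refl Q8 (y + t) * refl Q8 (s + y), hpair h2 h1, by rw [mul_apply, e1, e2]⟩

namespace Sys

variable (S : Sys G)

/-- The involutions of `E s` form one class, apart from `s`. -/
theorem K_of_mem {s x : G} (hs : S.K s) (hx : x ∈ S.E s) (hxx : x * x = 1) (hx1 : x ≠ 1) : S.K x := by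
  obtain ⟨π, M⟩ := S.model s hs
  obtain ⟨u, hu, hus, huK⟩ := S.nwc s hs
  have huu : u * u = 1 ∧ u ≠ 1 := by
    obtain ⟨g, rfl⟩ := isConj_iff.1 (S.K_isConj s u hs huK)
    exact ⟨by rw [show g * s * g⁻¹ * (g * s * g⁻¹) = g * (s * s) * g⁻¹ by group, M.sq_one]; group,
      fun e => M.ne_one (conj_eq_one_iff.1 e)⟩
  by_cases hxs : x = s
  · rw [hxs]; exact hs
  have hne : ∀ y ∈ S.E s, y ≠ 1 → y ≠ s → π y ≠ 0 := fun y hy h1 h2 h => by
    rcases (M.ker y hy).1 h with e | e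
    exacts [h1 e, h2 e]
  obtain ⟨g, hg, e⟩ := ev_transitive ((M.sq_eq_one hu).1 huu.1) (hne u hu huu.2 hus)
    ((M.sq_eq_one hx).1 hxx) (hne x hx hx1 hxs)
  obtain ⟨c, hc⟩ := M.lift g hg
  have hmem := M.normal c hc.1 u hu
  rcases M.eq_of_map hx hmem (by rw [hc.2 u hu, e]) with e1 | e1
  · rw [e1]; exact S.K_conj c u huK
  · obtain ⟨v, hv⟩ : ∃ v, B8 v (π x) = 1 := by
      by_contra! hall
      exact hne x hx hx1 hxs (nd8 _ fun a => by rw [polar_Q8, B8_comm]; exact (zcases _).resolve_right (hall a))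
    obtain ⟨y, hy, rfl⟩ := M.surj v
    rw [e1, show c * u * c⁻¹ * s = y * (c * u * c⁻¹) * y⁻¹ by
      rw [M.conj_eq hy hmem, show π (c * u * c⁻¹) = π x by rw [hc.2 u hu, e], hv, pw_one]]
    exact S.K_conj y _ (S.K_conj c u huK)

end Sys

namespace Adapted

variable {S : Sys G} {s b : G} {π : G → V8} (A : Adapted S s b π)
include A

/-- A fixed involution of `E s` is a conjugate of `s` by the centralizer of `b`. -/
theorem exists_conj_cent [Finite G] {u : G} (hu : u ∈ S.E s) (huu : u * u = 1) (hu1 : u ≠ 1) (hus : u ≠ s)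
    (hbu : Commute b u) :
    ∃ h, Commute h b ∧ h * s * h⁻¹ = u ∧ ∃ π', Adapted S u b π' ∧ s ∈ S.E u := by
  have hK := S.K_of_mem A.Ks hu huu hu1
  have hsu := A.mem_symm hK hu hbu
  obtain ⟨π', A'⟩ := S.exists_adapted_of_mem hK A.five A.ne hbu hsu A.model.ne_one hus.symm A.comm
  obtain ⟨g, hg⟩ := isConj_iff.1 (S.K_isConj s u A.Ks hK)
  have hb5 : (g * b * g⁻¹) ^ 5 = 1 := by rw [conj_pow, A.five]; group
  have hb1 : g * b * g⁻¹ ≠ 1 := fun e => A.ne (conj_eq_one_iff.1 e)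
  have hbu' : Commute (g * b * g⁻¹) u := by rw [← hg]; exact (Commute.conj_iff g).2 A.comm
  have hmem : g * u * g⁻¹ ∈ S.E u := by
    have h' := (S.E_conj g s A.Ks u).2 hu
    rwa [hg] at h'
  obtain ⟨σ, -, hσ, hσ5, hσ1⟩ := A'.model.acts_five hb5 hb1 hbu'
  have hv : π' (g * u * g⁻¹) ≠ 0 := fun e => by
    rcases (A'.model.ker _ hmem).1 e with e | e
    · exact hu1 (conj_eq_one_iff.1 e)
    · exact hus (mul_left_cancel (mul_right_cancel (e.trans hg.symm)))
  have hfix := A'.model.map_conj_fix hσ hmem ((Commute.conj_iff g).2 hbu)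
  obtain ⟨k, hk, hkσ⟩ := conj_b2 hσ5 hσ1 hv hfix
  obtain ⟨c, hc⟩ := A'.model.lift k hk
  have h1 : Acts u (S.E u) π' (c * (g * b * g⁻¹) * c⁻¹) b2 := hkσ ▸ A'.model.acts_conj hc hσ
  obtain ⟨e, he, he'⟩ := A'.model.exists_conj_five h1 A'.acts (by rw [conj_pow, hb5]; group) A.five
  refine ⟨e * c * g, conj_eq_iff_commute.1 ?_, ?_, π', A', hsu⟩
  · rw [show e * c * g * b * (e * c * g)⁻¹ = e * (c * (g * b * g⁻¹) * c⁻¹) * e⁻¹ by group]
    exact he'
  · rw [show e * c * g * s * (e * c * g)⁻¹ = (e * c) * (g * s * g⁻¹) * (e * c)⁻¹ by group, hg]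
    exact conj_eq_iff_commute.2 ((A'.model.le_cent e he).mul_left hc.1)

end Adapted

end CfsgLib.CoOneJTwo
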