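import Cfsg.Agent.Lib.CoOneJTwo.Space
import Mathlib.GroupTheory.Perm.Cycle.Type
import Mathlib.GroupTheory.Sylow

/-!
# Elements of order five of the eight-dimensional orthogonal group
-/

set_option autoImplicit false
set_option linter.style.haveILetI false
set_option maxRecDepth 10000
set_option synthInstance.maxSize 20000
set_option synthInstance.maxHeartbeats 400000
set_option linter.unusedSimpArgs false

namespace CfsgLib.CoOneJTwo

open CfsgLib.Classical.Quad CfsgLib.Orth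
open CfsgLib.SuzType (W4 q4 B4 r4 zcases zne zadd w4_add_self)

/-- The element of order five on the second summand. -/
noncomputable def b2 : Orth Q8 := inj (1, f4)

theorem b2_mem : b2 ∈ Ev := (inj_mem_iff _ _).2 (by rw [map_one, sgn_f4])

theorem b2_five : b2 ^ 5 = 1 := by
  rw [b2, ← map_pow, Prod.pow_mk, one_pow, f4_five]
  exact map_one inj

theorem b2_ne : b2 ≠ 1 := fun h => f4_ne (by
  have := inj_injective (h.trans (map_one inj).symm)
  exact congrArg Prod.snd this)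

theorem b2_apply (x : V8) : b2.1 x = (x.1, f4.1 x.2) := rfl

theorem b2_fix {x : V8} (h : b2.1 x = x) : x.2 = 0 := f4_fix (congrArg Prod.snd h)

/-- The centralizer of the element of order five. -/
theorem cent_b2 {g : Orth Q8} (h : Commute g b2) : ∃ (g1 : Orth Q4) (i : ℕ), g = inj (g1, f4 ^ i) := by
  have hfst : ∀ x : W4, (g.1 (x, 0)).2 = 0 := fun x => b2_fix (by
    rw [← mul_apply, ← h.eq, mul_apply, b2_apply]
    simp)
  have hsnd : ∀ y : W4, (g.1 (0, y)).1 = 0 := fun y => by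
    obtain ⟨z, hz⟩ := f4_surj y
    rw [show ((0, y) : V8) = b2.1 (0, z) + (0, z) by rw [b2_apply]; simp [hz], g8_add, ← mul_apply, h.eq,
      mul_apply, b2_apply]
    exact w4_add_self _
  have hsplit : ∀ x : V8, g.1 x = ((g.1 (x.1, 0)).1, (g.1 (0, x.2)).2) := fun x => by
    conv_lhs => rw [show x = (x.1, 0) + (0, x.2) by simp, g8_add]
    exact Prod.ext (by rw [Prod.fst_add, hsnd, add_zero]) (by rw [Prod.snd_add, hfst, zero_add])
  let l1 : W4 →ₗ[ZMod 2] W4 :=
    (LinearMap.fst _ _ _).comp ((g.1 : V8 →ₗ[ZMod 2] V8).comp (LinearMap.inl (ZMod 2) W4 W4))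
  let l2 : W4 →ₗ[ZMod 2] W4 :=
    (LinearMap.snd _ _ _).comp ((g.1 : V8 →ₗ[ZMod 2] V8).comp (LinearMap.inr (ZMod 2) W4 W4))
  have i1 : Function.Injective l1 := fun a c e => by
    have e' : (g.1 (a, 0)).1 = (g.1 (c, 0)).1 := e
    exact congrArg Prod.fst (g.1.injective (Prod.ext e' ((hfst a).trans (hfst c).symm)) : ((a, 0) : V8) = (c, 0))
  have i2 : Function.Injective l2 := fun a c e => by
    have e' : (g.1 (0, a)).2 = (g.1 (0, c)).2 := e
    exact congrArg Prod.snd (g.1.injective (Prod.ext ((hsnd a).trans (hsnd c).symm) e') : ((0, a) : V8) = (0, c))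
  let e1 := LinearEquiv.ofBijective l1 ⟨i1, Finite.surjective_of_injective i1⟩
  let e2 := LinearEquiv.ofBijective l2 ⟨i2, Finite.surjective_of_injective i2⟩
  let g1 : Orth Q4 := ⟨e1, fun x => by
    have := q8_g g (x, 0)
    rw [hsplit, show g.1 (((x, 0) : V8).1, 0) = g.1 (x, 0) from rfl,
      show g.1 (0, ((x, 0) : V8).2) = g.1 0 from rfl, g8_zero] at this
    simp only [q8, Prod.snd_zero, show q4 0 = 0 from rfl, add_zero] at this
    exact this⟩
  let g2 : Orth Q4 := ⟨e2, fun y => by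
    have := q8_g g (0, y)
    rw [hsplit, show g.1 (((0, y) : V8).1, 0) = g.1 0 from rfl,
      show g.1 (0, ((0, y) : V8).2) = g.1 (0, y) from rfl, g8_zero] at this
    simp only [q8, Prod.fst_zero, show q4 0 = 0 from rfl, zero_add] at this
    exact this⟩
  have hg : g = inj (g1, g2) := orth_ext fun x => by rw [hsplit, inj_apply]; rfl
  have hc : Commute g2 f4 := by
    rw [hg] at h
    have h' : inj ((g1, g2) * (1, f4)) = inj ((1, f4) * (g1, g2)) := by rw [map_mul, map_mul]; exact h.eq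
    exact congrArg Prod.snd (inj_injective h')
  obtain ⟨i, hi⟩ := cent_f4 hc
  exact ⟨g1, i, by rw [← hi]; exact hg⟩

/-- In the commutator subgroup the first component is even. -/
theorem cent_b2_mem {g : Orth Q8} (hg : g ∈ Ev) (h : Commute g b2) :
    ∃ (g1 : Orth Q4) (i : ℕ), sgn g1 = 1 ∧ g = inj (g1, f4 ^ i) := by
  obtain ⟨g1, i, rfl⟩ := cent_b2 h
  refine ⟨g1, i, ?_, rfl⟩
  rw [(inj_mem_iff _ _).1 hg, map_pow, sgn_f4, one_pow]

/-- The exchange of the summands. -/
noncomputable def flip8 : Orth Q8 :=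
  ⟨LinearEquiv.prodComm (ZMod 2) W4 W4, fun x => by
    show Q4 x.2 + Q4 x.1 = Q4 x.1 + Q4 x.2
    rw [add_comm]⟩

theorem flip8_apply (x : V8) : flip8.1 x = (x.2, x.1) := rfl

attribute [local irreducible] flip8

set_option maxHeartbeats 1000000 in
/-- An element of order five with a fixed vector is conjugate to the standard one. -/
theorem conj_b2 {σ : Orth Q8} (h5 : σ ^ 5 = 1) (h1 : σ ≠ 1) {v : V8} (hv : v ≠ 0)
    (hσv : σ.1 v = v) : ∃ k ∈ Ev, k * σ * k⁻¹ = b2 := by
  classical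
  haveI : Fact (Nat.Prime 5) := ⟨by norm_num⟩
  have hf : Nat.card (Subgroup.zpowers f4) = 5 := by
    rw [Nat.card_zpowers, orderOf_eq_prime f4_five f4_ne]
  set T := (Subgroup.zpowers f4).prod (Subgroup.zpowers f4) with hT
  have hT25 : Nat.card (T.map inj) = 25 := by
    rw [Subgroup.card_map_of_injective inj_injective, hT,
      Nat.card_congr (Subgroup.prodEquiv _ _).toEquiv, Nat.card_prod, hf]
  have hfac : (348364800 : ℕ).factorization 5 = 2 := by
    rw [show (348364800 : ℕ) = 5 ^ 2 * 13934592 by norm_num, Nat.factorization_mul (by norm_num) (by norm_num),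
      Finsupp.add_apply, Nat.factorization_pow, Finsupp.smul_apply,
      (show Nat.Prime 5 by norm_num).factorization_self, Nat.factorization_eq_zero_of_not_dvd (by norm_num)]
    norm_num
  let P : Sylow 5 (Orth Q8) := Sylow.ofCard (T.map inj) (by rw [hT25, card_orth8, hfac]; norm_num)
  have hσp : IsPGroup 5 (Subgroup.zpowers σ) :=
    IsPGroup.of_card (n := 1) (by rw [Nat.card_zpowers, orderOf_eq_prime h5 h1, pow_one])
  obtain ⟨P', hP'⟩ := hσp.exists_le_sylow
  obtain ⟨k, hk⟩ := MulAction.exists_smul_eq (Orth Q8) P' P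
  have hmem : k * σ * k⁻¹ ∈ T.map inj := by
    show k * σ * k⁻¹ ∈ (P : Subgroup (Orth Q8))
    rw [← hk]
    exact ⟨σ, hP' (Subgroup.mem_zpowers σ), rfl⟩
  obtain ⟨⟨a, c⟩, ⟨ha, hc⟩, e⟩ := hmem
  have ha5 : a ^ 5 = 1 := orderOf_dvd_iff_pow_eq_one.1 (hf ▸ Subgroup.orderOf_dvd_natCard _ ha)
  have hc5 : c ^ 5 = 1 := orderOf_dvd_iff_pow_eq_one.1 (hf ▸ Subgroup.orderOf_dvd_natCard _ hc)
  have hfix : (inj (a, c)).1 (k.1 v) = k.1 v := by
    rw [e, mul_apply, mul_apply, inv_apply_self, hσv]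
  have hkv : k.1 v ≠ 0 := orth_ne_zero k hv
  have hor : a = 1 ∨ c = 1 := by
    rw [inj_apply] at hfix
    obtain ⟨i, rfl⟩ := (Subgroup.mem_zpowers_iff.1 (show a ∈ Subgroup.zpowers f4 from ha))
    obtain ⟨j, rfl⟩ := (Subgroup.mem_zpowers_iff.1 (show c ∈ Subgroup.zpowers f4 from hc))
    obtain ⟨i', hi'⟩ : ∃ n : ℕ, f4 ^ n = f4 ^ i :=
      Submonoid.mem_powers_iff _ _ |>.1 (mem_powers_iff_mem_zpowers.2 ha)
    obtain ⟨j', hj'⟩ : ∃ n : ℕ, f4 ^ n = f4 ^ j :=
      Submonoid.mem_powers_iff _ _ |>.1 (mem_powers_iff_mem_zpowers.2 hc)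
    rw [← hi', ← hj'] at hfix ⊢
    by_cases h0 : (k.1 v).1 = 0
    · exact Or.inr (f4_pow_fix (congrArg Prod.snd hfix) fun h0' => hkv (Prod.ext h0 h0'))
    · exact Or.inl (f4_pow_fix (congrArg Prod.fst hfix) h0)
  obtain ⟨k1, hk1⟩ : ∃ k1 : Orth Q8, k1 * σ * k1⁻¹ = b2 := by
    rcases hor with rfl | rfl
    · have hc1 : c ≠ 1 := fun hc1 => h1 (by
        subst hc1
        exact conj_eq_one_iff.1 (e.symm.trans (map_one inj)))
      obtain ⟨n, hn⟩ := conj_five hc5 hc1
      refine ⟨inj (1, n) * k, ?_⟩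
      rw [mul_inv_rev, show inj (1, n) * k * σ * (k⁻¹ * (inj (1, n))⁻¹) =
        inj (1, n) * (k * σ * k⁻¹) * (inj (1, n))⁻¹ by group, ← e, ← map_inv inj, ← map_mul inj, ← map_mul inj]
      show inj (1 * 1 * 1⁻¹, n * c * n⁻¹) = b2
      rw [hn, inv_one, mul_one, mul_one]; rfl
    · have ha1 : a ≠ 1 := fun ha1 => h1 (by
        subst ha1
        exact conj_eq_one_iff.1 (e.symm.trans (map_one inj)))
      obtain ⟨n, hn⟩ := conj_five ha5 ha1
      refine ⟨flip8 * inj (n, 1) * k, ?_⟩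
      have e3 : inj (n, 1) * inj (a, 1) * (inj (n, 1))⁻¹ = inj (f4, 1) := by
        rw [← map_inv inj, ← map_mul inj, ← map_mul inj]
        exact congrArg inj (Prod.ext hn (by simp))
      rw [show flip8 * inj (n, 1) * k * σ * (flip8 * inj (n, 1) * k)⁻¹ =
        flip8 * (inj (n, 1) * (k * σ * k⁻¹) * (inj (n, 1))⁻¹) * flip8⁻¹ by group, ← e, e3]
      refine mul_inv_eq_iff_eq_mul.2 ?_
      refine orth_ext (Q := Q8) fun (x : V8) => ?_
      show flip8.1 ((inj (f4, 1)).1 x) = b2.1 (flip8.1 x)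
      rw [inj_apply, flip8_apply, flip8_apply]
      refine Eq.trans ?_ (b2_apply ((x.2, x.1) : V8)).symm
      exact Prod.ext (one_apply (Q := Q4) x.2) rfl
  by_cases hk1E : k1 ∈ Ev
  · exact ⟨k1, hk1E, hk1⟩
  · have hr : inj (refl Q4 (sv 0 + sv 1), 1) ∉ Ev := fun h => by
      have h' := (inj_mem_iff _ _).1 h
      exact absurd ((sgn_refl 0 1 (by decide)).symm.trans (h'.trans (map_one sgn))) (by decide)
    have hp : Commute ((refl Q4 (sv 0 + sv 1), 1) : Orth Q4 × Orth Q4) (1, f4) := by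
      generalize refl Q4 (sv 0 + sv 1) = w
      generalize f4 = f
      show (w, 1) * (1, f) = (1, f) * (w, 1)
      rw [Prod.mk_mul_mk, Prod.mk_mul_mk, mul_one, one_mul, mul_one, one_mul]
    have hcomm : Commute (inj (refl Q4 (sv 0 + sv 1), 1)) b2 := hp.map inj
    refine ⟨inj (refl Q4 (sv 0 + sv 1), 1) * k1,
      (Subgroup.mul_mem_iff_of_index_two index_Ev).2 (iff_of_false hr hk1E), ?_⟩
    generalize inj (refl Q4 (sv 0 + sv 1), 1) = r at hcomm ⊢
    rw [show r * k1 * σ * (r * k1)⁻¹ = r * (k1 * σ * k1⁻¹) * r⁻¹ by group, hk1]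
    exact mul_inv_eq_iff_eq_mul.2 hcomm.eq

/-- An invariant subgroup of a fixed-point-free element of order five. -/
theorem inv_card {σ : Orth Q8} (h5 : σ ^ 5 = 1) (hfree : ∀ v, σ.1 v = v → v = 0) (S : AddSubgroup V8)
    (hS : ∀ x, x ∈ S ↔ σ.1 x ∈ S) : Nat.card S = 1 ∨ Nat.card S = 16 ∨ Nat.card S = 256 := by
  classical
  haveI : Fact (Nat.Prime 5) := ⟨by norm_num⟩
  let p : Orth Q8 →* Equiv.Perm V8 :=
    { toFun := fun g => g.1.toEquiv
      map_one' := rfl
      map_mul' := fun _ _ => rfl }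
  let π : Equiv.Perm S := (p σ).subtypePerm fun x => (hS x).symm
  have hπ : π ^ 5 ^ 1 = 1 := by
    refine Equiv.ext fun y => Subtype.ext ?_
    simp [π, Equiv.Perm.subtypePerm_pow, ← map_pow, h5]
  have hm := Equiv.Perm.card_compl_support_modEq (p := 5) (n := 1) hπ
  have hone : π.supportᶜ = {⟨0, S.zero_mem⟩} := by
    ext y
    rw [Finset.mem_compl, Equiv.Perm.mem_support, not_not, Finset.mem_singleton]
    constructor
    · intro hy; exact Subtype.ext (hfree _ (congrArg Subtype.val hy))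
    · rintro rfl; exact Subtype.ext (map_zero σ.1)
  rw [hone, Finset.card_singleton, ← Nat.card_eq_fintype_card] at hm
  have hV : Nat.card V8 = 2 ^ 8 := by simp [V8, W4, Nat.card_prod]
  obtain ⟨k, hk, hk'⟩ := (Nat.dvd_prime_pow Nat.prime_two).1 (hV ▸ S.card_addSubgroup_dvd_card)
  rw [hk'] at hm ⊢
  interval_cases k <;> first | (exact absurd hm (by decide)) | norm_num

/-- `g + 1` as an additive map. -/
noncomputable def dd (g : Orth Q8) : V8 →+ V8 :=
  AddMonoidHom.mk' (fun x => g.1 x + x) fun x y => by rw [g8_add]; abel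

theorem dd_apply (g : Orth Q8) (x : V8) : dd g x = g.1 x + x := rfl

theorem dd_dd (g : Orth Q8) (x : V8) : dd g (dd g x) = (g * g).1 x + x := by
  rw [dd_apply, dd_apply, g8_add, mul_apply,
    show g.1 (g.1 x) + g.1 x + (g.1 x + x) = g.1 (g.1 x) + (g.1 x + g.1 x) + x by abel, v8_add_self, add_zero]

theorem dd_comm {g h : Orth Q8} (hc : Commute g h) (x : V8) : g.1 (dd h x) = dd h (g.1 x) := by
  rw [dd_apply, dd_apply, g8_add, ← mul_apply, hc.eq, mul_apply]

theorem range_iff {σ α : Orth Q8} (hc : Commute σ α) (x : V8) :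
    x ∈ (dd α).range ↔ σ.1 x ∈ (dd α).range := by
  constructor
  · rintro ⟨y, rfl⟩; exact ⟨σ.1 y, (dd_comm hc y).symm⟩
  · rintro ⟨y, hy⟩
    exact ⟨(σ⁻¹).1 y, by rw [← dd_comm hc.inv_left, hy, inv_apply_self]⟩

theorem ker_iff {σ α : Orth Q8} (hc : Commute σ α) (x : V8) :
    x ∈ (dd α).ker ↔ σ.1 x ∈ (dd α).ker := by
  rw [AddMonoidHom.mem_ker, AddMonoidHom.mem_ker, ← dd_comm hc]
  exact (LinearEquiv.map_eq_zero_iff _).symm

theorem card_range_mul (α : Orth Q8) : Nat.card (dd α).range * Nat.card (dd α).ker = 256 := by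
  have := (dd α).ker.card_mul_index
  rw [AddSubgroup.index_ker] at this
  rw [mul_comm, this]
  simp [V8, W4, Nat.card_prod]

theorem range_eq_ker {σ α : Orth Q8} (h5 : σ ^ 5 = 1) (hfree : ∀ v, σ.1 v = v → v = 0) (hc : Commute σ α)
    (h4 : α ^ 4 = 1) (h1 : α ≠ 1) :
    Nat.card (dd α).range = 16 ∧ (dd α).range = (dd α).ker := by
  set N := dd α
  have hN4 : ∀ x, N (N (N (N x))) = 0 := fun x => by
    rw [dd_dd α (N (N x)), dd_dd α x, g8_add, ← mul_apply, show α * α * (α * α) = α ^ 4 by rw [show 4 = 2 + 2 from rfl, pow_add, pow_two], h4,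
      one_apply,
      show x + (α * α).1 x + ((α * α).1 x + x) = (x + x) + ((α * α).1 x + (α * α).1 x) by abel,
      v8_add_self, v8_add_self, add_zero]
  have hmul : Nat.card N.range * Nat.card N.ker = 256 := card_range_mul α
  rcases inv_card h5 hfree N.range (range_iff hc) with e | e | e
  · exfalso
    refine h1 (orth_ext fun x => ?_)
    have hb : N.range = ⊥ := AddSubgroup.eq_bot_of_card_eq _ e
    have : N x = 0 := by
      have := hb.le ⟨x, rfl⟩; simpa using this
    rw [one_apply]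
    exact (v8_add_eq this).trans (zero_add x)
  · refine ⟨e, ?_⟩
    have hk : Nat.card N.ker = 16 := by rw [e] at hmul; omega
    have hi : ∀ x, x ∈ N.range ⊓ N.ker ↔ σ.1 x ∈ N.range ⊓ N.ker := fun x => by
      rw [AddSubgroup.mem_inf, AddSubgroup.mem_inf, range_iff hc, ker_iff hc]
    have hle := AddSubgroup.card_le_of_le (inf_le_left : N.range ⊓ N.ker ≤ N.range)
    rcases inv_card h5 hfree _ hi with e' | e' | e'
    · exfalso
      have hb : N.range ⊓ N.ker = ⊥ := AddSubgroup.eq_bot_of_card_eq _ e'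
      have hinj : ∀ y, N (N y) = 0 → N y = 0 := fun y hy => by
        have := hb.le ⟨⟨y, rfl⟩, AddMonoidHom.mem_ker.2 hy⟩; simpa using this
      have : N.range = ⊥ := by
        rw [eq_bot_iff]; rintro _ ⟨y, rfl⟩
        exact AddSubgroup.mem_bot.2 (hinj _ (hinj _ (hinj _ (hN4 y))))
      rw [this, AddSubgroup.card_bot] at e
      omega
    · have e1 := AddSubgroup.eq_of_le_of_card_ge (inf_le_left : N.range ⊓ N.ker ≤ N.range) (by omega)
      have e2 := AddSubgroup.eq_of_le_of_card_ge (inf_le_right : N.range ⊓ N.ker ≤ N.ker) (by omega)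
      exact e1.symm.trans e2
    · omega
  · exfalso
    have ht : N.range = ⊤ := AddSubgroup.eq_top_of_card_eq _ (by rw [e]; simp [V8, W4, Nat.card_prod])
    obtain ⟨y1, h1⟩ := ht.ge (AddSubgroup.mem_top ((sv 0, 0) : V8))
    obtain ⟨y2, h2⟩ := ht.ge (AddSubgroup.mem_top y1)
    obtain ⟨y3, h3⟩ := ht.ge (AddSubgroup.mem_top y2)
    obtain ⟨y4, h4'⟩ := ht.ge (AddSubgroup.mem_top y3)
    have := hN4 y4
    rw [h4', h3, h2, h1] at this
    exact (sv_sing 0).2 (congrArg Prod.fst this)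

/-- An element of order dividing four commuting with an element of order five is an involution. -/
theorem sq_of_comm_five {σ α : Orth Q8} (h5 : σ ^ 5 = 1) (h1 : σ ≠ 1) (hα : α ∈ Ev)
    (h4 : α ^ 4 = 1) (hc : Commute σ α) : α * α = 1 := by
  by_cases hfix : ∃ v, v ≠ 0 ∧ σ.1 v = v
  · obtain ⟨v, hv, hv'⟩ := hfix
    obtain ⟨k, hkE, hk⟩ := conj_b2 h5 h1 hv hv'
    have hc' : Commute (k * α * k⁻¹) b2 := by rw [← hk]; exact (Commute.conj_iff k).2 hc.symm
    obtain ⟨g1, i, hg1, hg⟩ := cent_b2_mem (mul_mem (mul_mem hkE hα) (inv_mem hkE)) hc'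
    have h4' : inj ((g1, f4 ^ i) ^ 4) = inj 1 := by rw [map_pow, ← hg, conj_pow, h4, map_one]; group
    have h4'' := inj_injective h4'
    have e1 : g1 * g1 = 1 := even_four hg1 (congrArg Prod.fst h4'')
    have e2 : f4 ^ i = 1 := by
      have e2 : (f4 ^ i) ^ 4 = 1 := congrArg Prod.snd h4''
      have e3 : (f4 ^ i) ^ 5 = 1 := by rw [← pow_mul, mul_comm, pow_mul, f4_five, one_pow]
      rwa [pow_succ, e2, one_mul] at e3
    have : (k * α * k⁻¹) * (k * α * k⁻¹) = 1 := by
      rw [hg, ← map_mul, Prod.mk_mul_mk, e1, e2, mul_one]; exact map_one inj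
    rwa [show k * α * k⁻¹ * (k * α * k⁻¹) = k * (α * α) * k⁻¹ by group, conj_eq_one_iff] at this
  · push Not at hfix
    by_cases ha1 : α = 1
    · rw [ha1, mul_one]
    obtain ⟨-, e⟩ := range_eq_ker h5 (fun v hv => by_contra fun h => hfix v h hv) hc h4 ha1
    refine orth_ext fun x => ?_
    have h0 : dd α (dd α x) = 0 := AddMonoidHom.mem_ker.1 (e.le ⟨x, rfl⟩)
    rw [dd_dd] at h0
    exact (v8_add_eq h0).trans (zero_add x)

/-- A two-group of permutations fixing a point of a set of even size fixes another one. -/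
theorem exists_other_fix {A X : Type*} [Group A] [Finite A] [Finite X] (hA : IsPGroup 2 A)
    (ρ : A →* Equiv.Perm X) {x₀ : X} (h0 : ∀ a, ρ a x₀ = x₀) (hX : 2 ∣ Nat.card X) :
    ∃ y ≠ x₀, ∀ a, ρ a y = y := by
  haveI : Fact (Nat.Prime 2) := ⟨Nat.prime_two⟩
  letI : MulAction A X := MulAction.compHom X ρ
  obtain ⟨y, hy, hne⟩ := hA.exists_fixed_point_of_prime_dvd_card_of_fixed_point X hX (a := x₀) h0
  exact ⟨y, hne.symm, hy⟩

end CfsgLib.CoOneJTwo
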