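import Cfsg.Agent.Lib.CoOneJTwo.Model

/-!
# An element of order five with a fixed point on the extraspecial subgroup
-/

set_option autoImplicit false
set_option linter.style.haveILetI false
set_option synthInstance.maxSize 20000
set_option maxRecDepth 10000
set_option linter.unusedSectionVars false

namespace CfsgLib.CoOneJTwo

open CfsgLib.Classical.Quad
open CfsgLib.SuzType (W4 q4 B4 zcases)

universe u

variable {G : Type u} [Group G]

/-- `b` acts on the coordinates at `s` by the standard element of order five. -/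
structure Adapted (S : Sys G) (s b : G) (π : G → V8) : Prop where
  Ks : S.K s
  model : Model s (S.E s) π
  acts : Acts s (S.E s) π b b2
  five : b ^ 5 = 1
  ne : b ≠ 1

namespace Model

variable {s : G} {E : Subgroup G} {π : G → V8} (M : Model s E π)
include M

theorem acts_one : Acts s E π 1 1 := M.acts_mem E.one_mem

theorem acts_five {c : G} (h5 : c ^ 5 = 1) (h1 : c ≠ 1) (hc : Commute c s) :
    ∃ σ ∈ Ev, Acts s E π c σ ∧ σ ^ 5 = 1 ∧ σ ≠ 1 := by
  obtain ⟨σ, hσ, ha⟩ := M.act c hc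
  refine ⟨σ, hσ, ha, ?_, fun e => h1 ?_⟩
  · have h := M.acts_pow ha 5
    rw [h5] at h
    exact M.acts_unique h M.acts_one
  · have h4 := M.pow_four (M.faith c (e ▸ ha))
    rwa [pow_succ, h4, one_mul] at h5

theorem acts_conj {c d : G} {g h : Orth Q8} (hc : Acts s E π c g) (hd : Acts s E π d h) :
    Acts s E π (c * d * c⁻¹) (g * h * g⁻¹) :=
  M.acts_mul (M.acts_mul hc hd) (M.acts_inv hc)

theorem acts_commute {c d : G} {g h : Orth Q8} (hc : Acts s E π c g) (hd : Acts s E π d h)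
    (hcd : Commute c d) : Commute g h := by
  have h1 := M.acts_mul hd hc
  rw [← hcd.eq] at h1
  exact M.acts_unique (M.acts_mul hc hd) h1

theorem map_conj_fix {c q : G} {g : Orth Q8} (hc : Acts s E π c g) (hq : q ∈ E) (hcq : Commute c q) :
    g.1 (π q) = π q := by
  rw [← hc.2 q hq, conj_eq_iff_commute.2 hcq]

/-- Elements of order five with the same action are conjugate by the extraspecial subgroup. -/
theorem exists_conj_five [Finite G] {c d : G} {g : Orth Q8} (hc : Acts s E π c g) (hd : Acts s E π d g)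
    (hc5 : c ^ 5 = 1) (hd5 : d ^ 5 = 1) : ∃ e ∈ E, e * c * e⁻¹ = d := by
  classical
  haveI : Fact (Nat.Prime 5) := ⟨by norm_num⟩
  haveI : Fact (Nat.Prime 2) := ⟨Nat.prime_two⟩
  haveI := Fintype.ofFinite E
  have hmem : d * c⁻¹ ∈ E := M.faith _ (mul_inv_cancel g ▸ M.acts_mul hd (M.acts_inv hc))
  have hmem' : d⁻¹ * c ∈ E := M.faith _ (inv_mul_cancel g ▸ M.acts_mul (M.acts_inv hd) hc)
  let p : Equiv.Perm E :=
    { toFun := fun e => ⟨d * e.1 * c⁻¹, by
        rw [show d * e.1 * c⁻¹ = d * c⁻¹ * (c * e.1 * c⁻¹) by group]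
        exact E.mul_mem hmem (M.normal c hc.1 _ e.2)⟩
      invFun := fun e => ⟨d⁻¹ * e.1 * c, by
        rw [show d⁻¹ * e.1 * c = d⁻¹ * c * (c⁻¹ * e.1 * c⁻¹⁻¹) by group]
        exact E.mul_mem hmem' (M.normal c⁻¹ hc.1.inv_left _ e.2)⟩
      left_inv := fun e => Subtype.ext (by group)
      right_inv := fun e => Subtype.ext (by group) }
  have hpow : ∀ (n : ℕ) (e : E), ((p ^ n) e).1 = d ^ n * e.1 * (c ^ n)⁻¹ := by
    intro n
    induction n with
    | zero => intro e; simp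
    | succ n ih =>
      intro e
      rw [pow_succ', Equiv.Perm.mul_apply, show (p ((p ^ n) e)).1 = d * ((p ^ n) e).1 * c⁻¹ from rfl, ih,
        pow_succ' d, pow_succ' c]
      group
  have hp : p ^ 5 ^ 1 = 1 := Equiv.ext fun e => Subtype.ext (by
    rw [hpow, pow_one, hd5, hc5]; simp)
  have hm := Equiv.Perm.card_compl_support_modEq (p := 5) (n := 1) hp
  obtain ⟨n, hn⟩ := (IsPGroup.iff_card (p := 2) (G := E)).1 (fun q => ⟨2, Subtype.ext (by
    rw [SubmonoidClass.coe_pow]; exact M.pow_four q.2)⟩)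
  have hne : p.supportᶜ.Nonempty := by
    rw [← Finset.card_pos]
    refine Nat.pos_of_ne_zero fun h0 => ?_
    rw [h0, ← Nat.card_eq_fintype_card, hn] at hm
    have h5 : (5 : ℕ) ∣ 2 ^ n := Nat.modEq_zero_iff_dvd.1 hm.symm
    exact absurd ((Nat.prime_dvd_prime_iff_eq (by norm_num) Nat.prime_two).1
      ((by norm_num : Nat.Prime 5).dvd_of_dvd_pow h5)) (by norm_num)
  obtain ⟨e, he⟩ := hne
  rw [Finset.mem_compl, Equiv.Perm.mem_support, not_not] at he
  refine ⟨e.1, e.2, mul_inv_eq_iff_eq_mul.2 ?_⟩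
  have he' : d * e.1 * c⁻¹ = e.1 := congrArg Subtype.val he
  exact (mul_inv_eq_iff_eq_mul.1 he').symm

end Model

namespace Sys

variable (S : Sys G)

theorem exists_adapted_of_mem {s b q : G} (hs : S.K s) (h5 : b ^ 5 = 1) (h1 : b ≠ 1)
    (hbs : Commute b s) (hq : q ∈ S.E s) (hq1 : q ≠ 1) (hqs : q ≠ s) (hbq : Commute b q) :
    ∃ π, Adapted S s b π := by
  obtain ⟨π₀, M⟩ := S.model s hs
  obtain ⟨σ, -, hσ, hσ5, hσ1⟩ := M.acts_five h5 h1 hbs
  have hv : π₀ q ≠ 0 := fun h => by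
    rcases (M.ker q hq).1 h with e | e
    exacts [hq1 e, hqs e]
  obtain ⟨k, hk, e⟩ := conj_b2 hσ5 hσ1 hv (M.map_conj_fix hσ hq hbq)
  exact ⟨fun x => k.1 (π₀ x), hs, M.comp hk, ⟨hbs, fun x hx => by
    show k.1 (π₀ (b * x * b⁻¹)) = b2.1 (k.1 (π₀ x))
    rw [hσ.2 x hx, ← e, mul_apply, mul_apply, inv_apply_self]⟩, h5, h1⟩

end Sys

namespace Adapted

variable {S : Sys G} {s b : G} {π : G → V8} (A : Adapted S s b π)
include A

theorem comm : Commute b s := A.acts.1

theorem snd_of_commute {q : G} (hq : q ∈ S.E s) (h : Commute b q) : (π q).2 = 0 :=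
  b2_fix (A.model.map_conj_fix A.acts hq h)

theorem commute_of_snd {q : G} (hq : q ∈ S.E s) (h : (π q).2 = 0) : Commute b q := by
  have hmem := A.model.normal b A.comm q hq
  rcases A.model.eq_of_map hmem hq (by
    rw [A.acts.2 q hq, b2_apply, h, map_zero, ← h]) with e | e
  · exact conj_eq_iff_commute.1 e
  · exfalso
    have hstep : ∀ r : G, r = q ∨ r = q * s → b * r * b⁻¹ = r * s := by
      rintro r (rfl | rfl)
      · exact e
      · rw [show b * (q * s) * b⁻¹ = b * q * b⁻¹ * (b * s * b⁻¹) by group, e,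
          conj_eq_iff_commute.2 A.comm]
    have h2 : b ^ 2 * q * (b ^ 2)⁻¹ = q := by
      rw [show b ^ 2 * q * (b ^ 2)⁻¹ = b * (b * q * b⁻¹) * b⁻¹ by rw [pow_two]; group, e,
        hstep _ (Or.inr rfl), mul_assoc, A.model.sq_one, mul_one]
    have hb : Commute ((b ^ 2) ^ 3) q := (conj_eq_iff_commute.1 h2).pow_left 3
    rw [← pow_mul, show 2 * 3 = 5 + 1 by norm_num, pow_add, A.five, one_mul, pow_one] at hb
    rw [conj_eq_iff_commute.2 hb] at e
    exact A.model.ne_one (mul_eq_left.1 e.symm)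

theorem exists_fixed_lift (x : W4) : ∃ q ∈ S.E s, π q = (x, 0) ∧ Commute b q := by
  obtain ⟨q, hq, e⟩ := A.model.surj (x, 0)
  exact ⟨q, hq, e, A.commute_of_snd hq (by rw [e])⟩

theorem image {c : G} (hcs : Commute c s) (hcb : Commute c b) :
    ∃ (g1 : Orth Q4) (i : ℕ), sgn g1 = 1 ∧ Acts s (S.E s) π c (inj (g1, f4 ^ i)) := by
  obtain ⟨g, hg, ha⟩ := A.model.act c hcs
  obtain ⟨g1, i, h1, e⟩ := cent_b2_mem hg (A.model.acts_commute ha A.acts hcb)
  exact ⟨g1, i, h1, e ▸ ha⟩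

theorem lift [Finite G] {g : Orth Q8} (hg : g ∈ Ev) (hgb : Commute g b2) :
    ∃ c, Acts s (S.E s) π c g ∧ Commute c b := by
  obtain ⟨c, hc⟩ := A.model.lift g hg
  have h1 : Acts s (S.E s) π (c * b * c⁻¹) b2 := by
    have := A.model.acts_conj hc A.acts
    rwa [hgb.eq, mul_inv_cancel_right] at this
  obtain ⟨e, he, he'⟩ := A.model.exists_conj_five h1 A.acts (by rw [conj_pow, A.five]; group) A.five
  refine ⟨e * c, by simpa using A.model.acts_mul (A.model.acts_mem he) hc, conj_eq_iff_commute.1 ?_⟩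
  rw [← show e * (c * b * c⁻¹) * e⁻¹ = e * c * b * (e * c)⁻¹ by group]
  exact he'

end Adapted

end CfsgLib.CoOneJTwo
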