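import Cfsg.Agent.Lib.SuzType.Space
import Mathlib.GroupTheory.Perm.Fin
import Mathlib.GroupTheory.SpecificGroups.Alternating
import Mathlib.GroupTheory.Perm.Closure

/-!
# The isometry group of the four-dimensional elliptic space as the symmetric group of degree five
-/

set_option autoImplicit false
set_option maxRecDepth 10000
set_option linter.style.haveILetI false
set_option linter.unusedVariables false

namespace CfsgLib.CoOneJTwo

open CfsgLib.Classical.Quad CfsgLib.Orth
open QuadraticMap (polar)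
open CfsgLib.SuzType (W4 q4 B4 r4 zcases zne zadd w4_add_self)

/-- The form on the four-dimensional elliptic space. -/
noncomputable def Q4 : QuadraticForm (ZMod 2) W4 :=
  LinearMap.BilinMap.toQuadraticMap
    (LinearMap.mk₂ (ZMod 2) (fun x y : W4 => x.1 * y.2.1 +
      (x.2.2.1 * y.2.2.1 + x.2.2.1 * y.2.2.2 + x.2.2.2 * y.2.2.2))
      (fun a b c => by simp; ring) (fun c a b => by simp; ring)
      (fun a b c => by simp; ring) (fun c a b => by simp; ring))

theorem Q4_apply (x : W4) : Q4 x = q4 x := rfl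

theorem polar_Q4 (x y : W4) : polar Q4 x y = B4 x y := by
  simp only [polar, Q4_apply, q4, B4, Prod.fst_add, Prod.snd_add]
  linear_combination (x.2.2.1 * y.2.2.1 + x.2.2.2 * y.2.2.2) * (CharTwo.two_eq_zero (R := ZMod 2))

theorem nd4 : NDPolar Q4 := by
  intro x hx
  simp only [polar_Q4] at hx
  exact (by decide : ∀ x : W4, (∀ y, B4 x y = 0) → x = 0) x hx

theorem q4_g (g : Orth Q4) (x : W4) : q4 (g.1 x) = q4 x := orth_Q g x

theorem B4_g (g : Orth Q4) (x y : W4) : B4 (g.1 x) (g.1 y) = B4 x y := by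
  have := orth_polar g x y
  rwa [polar_Q4, polar_Q4] at this

/-- The five singular vectors. -/
def sv : Fin 5 → W4 := ![(1, 0, 0, 0), (0, 1, 0, 0), (1, 1, 1, 0), (1, 1, 0, 1), (1, 1, 1, 1)]

/-- The index of a singular vector. -/
def ix (x : W4) : Fin 5 :=
  if x = sv 0 then 0 else if x = sv 1 then 1 else if x = sv 2 then 2 else if x = sv 3 then 3 else 4

theorem ix_sv : ∀ i, ix (sv i) = i := by decide

theorem sv_sing : ∀ i, q4 (sv i) = 0 ∧ sv i ≠ 0 := by decide

theorem sv_ix : ∀ x, q4 x = 0 → x ≠ 0 → sv (ix x) = x := by decide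

theorem sv_inj {i j : Fin 5} (h : sv i = sv j) : i = j := by rw [← ix_sv i, h, ix_sv]

/-- The linear map attached to a permutation of the singular vectors. -/
def lin (p : Fin 5 → Fin 5) (x : W4) : W4 :=
  (x.1 + x.2.2.1 + x.2.2.2) • sv (p 0) + (x.2.1 + x.2.2.1 + x.2.2.2) • sv (p 1) +
    x.2.2.1 • sv (p 2) + x.2.2.2 • sv (p 3)

theorem lin_id : ∀ x : W4, lin id x = x := by decide

theorem sing_g (g : Orth Q4) (i : Fin 5) : sv (ix (g.1 (sv i))) = g.1 (sv i) :=
  sv_ix _ (by rw [q4_g]; exact (sv_sing i).1) (orth_ne_zero g (sv_sing i).2)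

/-- The permutation of the singular vectors. -/
noncomputable def perm : Orth Q4 →* Equiv.Perm (Fin 5) where
  toFun g :=
    { toFun := fun i => ix (g.1 (sv i))
      invFun := fun i => ix ((g⁻¹).1 (sv i))
      left_inv := fun i => by simp only [sing_g, inv_apply_self, ix_sv]
      right_inv := fun i => by simp only [sing_g, self_apply_inv, ix_sv] }
  map_one' := Equiv.ext fun i => ix_sv i
  map_mul' g h := Equiv.ext fun i => by
    show ix ((g * h).1 (sv i)) = ix (g.1 (sv (ix (h.1 (sv i)))))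
    rw [sing_g, mul_apply]

theorem perm_apply (g : Orth Q4) (i : Fin 5) : perm g i = ix (g.1 (sv i)) := rfl

theorem sv_perm (g : Orth Q4) (i : Fin 5) : g.1 (sv i) = sv (perm g i) := by
  rw [perm_apply, sing_g]

theorem apply_eq_lin (g : Orth Q4) (x : W4) : g.1 x = lin (perm g) x := by
  conv_lhs => rw [← lin_id x]
  simp only [lin, id, map_add, map_smul, sv_perm]

theorem perm_injective : Function.Injective perm := fun g h e => orth_ext fun x => by
  rw [apply_eq_lin, apply_eq_lin, e]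

theorem refl4 {a : W4} (ha : q4 a = 1) (x : W4) : (refl Q4 a).1 x = r4 a x := by
  rw [refl_apply, polar_Q4, Q4_apply, ha, div_one, CharTwo.neg_eq]; rfl

theorem swap_sum : ∀ i j : Fin 5, i ≠ j → q4 (sv i + sv j) = 1 ∧
    ∀ k, ix (r4 (sv i + sv j) (sv k)) = Equiv.swap i j k := by decide

theorem perm_refl {i j : Fin 5} (h : i ≠ j) : perm (refl Q4 (sv i + sv j)) = Equiv.swap i j :=
  Equiv.ext fun k => by rw [perm_apply, refl4 (swap_sum i j h).1, (swap_sum i j h).2]

theorem perm_surjective : Function.Surjective perm := by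
  rw [← MonoidHom.range_eq_top, ← top_le_iff, ← Equiv.Perm.closure_isSwap, Subgroup.closure_le]
  rintro _ ⟨i, j, hij, rfl⟩
  exact ⟨_, perm_refl hij⟩

/-- The isometry group is the symmetric group of degree five. -/
noncomputable def permEquiv : Orth Q4 ≃* Equiv.Perm (Fin 5) :=
  MulEquiv.ofBijective perm ⟨perm_injective, perm_surjective⟩

instance : Finite (Orth Q4) := Finite.of_equiv _ permEquiv.symm.toEquiv

theorem card_orth4 : Nat.card (Orth Q4) = 120 := by
  rw [Nat.card_congr permEquiv.toEquiv, Nat.card_perm, Nat.card_fin]; rfl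

/-- The sign. -/
noncomputable def sgn : Orth Q4 →* ℤˣ := Equiv.Perm.sign.comp perm

theorem sgn_refl (i j : Fin 5) (h : i ≠ j) : sgn (refl Q4 (sv i + sv j)) = -1 := by
  rw [sgn, MonoidHom.comp_apply, perm_refl h, Equiv.Perm.sign_swap h]

/-- The even isometries onto the alternating group. -/
noncomputable def evenHom : ↥sgn.ker →* alternatingGroup (Fin 5) where
  toFun g := ⟨perm g.1, g.2⟩
  map_one' := Subtype.ext (map_one perm)
  map_mul' a b := Subtype.ext (map_mul perm _ _)

theorem evenHom_bijective : Function.Bijective evenHom := by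
  refine ⟨fun a b h => Subtype.ext (perm_injective (congrArg Subtype.val h)), fun p => ?_⟩
  obtain ⟨g, hg⟩ := perm_surjective p.1
  exact ⟨⟨g, by rw [MonoidHom.mem_ker, sgn, MonoidHom.comp_apply, hg]; exact p.2⟩, Subtype.ext hg⟩

theorem even_four {g : Orth Q4} (hg : sgn g = 1) (h4 : g ^ 4 = 1) : g * g = 1 := by
  refine perm_injective ?_
  have h1 : perm g ^ 4 = 1 := by rw [← map_pow, h4, map_one]
  have h2 := (by decide +kernel : ∀ p : Equiv.Perm (Fin 5), Equiv.Perm.sign p = 1 → p ^ 4 = 1 → p * p = 1)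
    (perm g) hg h1
  rw [map_mul, h2, map_one]

/-- An element of order five. -/
noncomputable def f4 : Orth Q4 := permEquiv.symm (finRotate 5)

theorem perm_f4 : perm f4 = finRotate 5 := permEquiv.apply_symm_apply _

theorem f4_five : f4 ^ 5 = 1 := perm_injective (by
  rw [map_pow, perm_f4, map_one]; decide +kernel)

theorem sgn_f4 : sgn f4 = 1 := by
  rw [sgn, MonoidHom.comp_apply, perm_f4]; decide +kernel

theorem f4_pow_fix {i : ℕ} {y : W4} (h : (f4 ^ i).1 y = y) (hy : y ≠ 0) : f4 ^ i = 1 := by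
  have hm : f4 ^ i = f4 ^ (i % 5) := pow_eq_pow_mod i f4_five
  rw [hm] at h ⊢
  have h5 : i % 5 < 5 := Nat.mod_lt _ (by norm_num)
  generalize i % 5 = k at h h5 ⊢
  rw [apply_eq_lin, map_pow, perm_f4] at h
  rcases (by decide +kernel :
    ∀ k : Fin 5, ∀ y : W4, lin ⇑((finRotate 5) ^ (k : ℕ)) y = y → k = 0 ∨ y = 0) ⟨k, h5⟩ y h with e | e
  · rw [show k = 0 from congrArg Fin.val e, pow_zero]
  · exact absurd e hy

theorem f4_ne : f4 ≠ 1 := fun h => by
  have := (congrArg perm h); rw [perm_f4, map_one] at this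
  exact absurd this (by decide +kernel)

theorem f4_fix {y : W4} (h : f4.1 y = y) : y = 0 := by
  by_contra hy
  exact f4_ne (pow_one f4 ▸ f4_pow_fix (i := 1) (by rwa [pow_one]) hy)

theorem f4_surj (x : W4) : ∃ y, f4.1 y + y = x := by
  simp only [apply_eq_lin, perm_f4]
  exact (by decide +kernel : ∀ x : W4, ∃ y, lin ⇑(finRotate 5) y + y = x) x

theorem f4_irred {x : W4} (hx : x ≠ 0) (S : Set W4) (h0 : (0 : W4) ∈ S) (hxS : x ∈ S)
    (hadd : ∀ a ∈ S, ∀ b ∈ S, a + b ∈ S) (hf : ∀ a ∈ S, f4.1 a ∈ S) (y : W4) : y ∈ S := by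
  obtain ⟨a, b, c, d, e⟩ := (by decide +kernel : ∀ x : W4, x ≠ 0 → ∀ y : W4, ∃ a b c d : ZMod 2,
    let f := lin ⇑(finRotate 5)
    a • x + b • f x + c • f (f x) + d • f (f (f x)) = y) x hx y
  have hs : ∀ (a : ZMod 2) (v : W4), v ∈ S → a • v ∈ S := fun a v hv => by
    rcases zcases a with rfl | rfl
    · rwa [zero_smul]
    · rwa [one_smul]
  have hl : ∀ v, lin ⇑(finRotate 5) v = f4.1 v := fun v => by rw [apply_eq_lin, perm_f4]
  simp only [hl] at e
  rw [← e]
  exact hadd _ (hadd _ (hadd _ (hs a _ hxS) _ (hs b _ (hf _ hxS))) _ (hs c _ (hf _ (hf _ hxS))))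
    _ (hs d _ (hf _ (hf _ (hf _ hxS))))

theorem cent_f4 {g : Orth Q4} (h : Commute g f4) : ∃ i : ℕ, g = f4 ^ i := by
  have h' : perm g * finRotate 5 = finRotate 5 * perm g := by
    rw [← perm_f4, ← map_mul, h.eq, map_mul]
  obtain ⟨i, hi⟩ := (by decide +kernel : ∀ p : Equiv.Perm (Fin 5), p * finRotate 5 = finRotate 5 * p →
    ∃ i : Fin 5, p = finRotate 5 ^ (i : ℕ)) (perm g) h'
  exact ⟨i, perm_injective (by rw [map_pow, perm_f4, hi])⟩

theorem conj_five {g : Orth Q4} (h5 : g ^ 5 = 1) (h1 : g ≠ 1) : ∃ k : Orth Q4, k * g * k⁻¹ = f4 := by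
  haveI : Fact (Nat.Prime 5) := ⟨by norm_num⟩
  have ho : orderOf (perm g) = 5 :=
    orderOf_eq_prime (by rw [← map_pow, h5, map_one]) (fun e => h1 (perm_injective (by rw [e, map_one])))
  have hc : Equiv.Perm.cycleType (perm g) = Equiv.Perm.cycleType (finRotate 5) := by
    rw [cycleType_finRotate]
    obtain ⟨n, hn⟩ := Equiv.Perm.cycleType_prime_order (σ := perm g) (by rw [ho]; norm_num)
    rw [ho] at hn
    have := (Equiv.Perm.sum_cycleType_le (perm g))
    rw [hn, Multiset.sum_replicate, smul_eq_mul, Fintype.card_fin] at this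
    rw [hn, show n = 0 by omega]; rfl
  obtain ⟨p, hp⟩ := isConj_iff.1 (Equiv.Perm.isConj_of_cycleType_eq hc)
  obtain ⟨k, rfl⟩ := perm_surjective p
  exact ⟨k, perm_injective (by rw [map_mul, map_mul, map_inv, hp, perm_f4])⟩

end CfsgLib.CoOneJTwo
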