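import Cfsg.Agent.Lib.CoOneJTwo.Local

/-!
# A complement of the cyclic group in the centralizer of an element of order five
-/

set_option autoImplicit false
set_option linter.style.haveILetI false
set_option linter.unusedSectionVars false
set_option synthInstance.maxSize 20000
set_option maxRecDepth 10000

namespace CfsgLib.CoOneJTwo

open CfsgLib.Classical.Quad

universe u

/-- A subgroup containing the kernel and all tenth powers is the whole group. -/
theorem eq_top_of_tenth {K : Type*} [Group K] (ψ : K →* alternatingGroup (Fin 5))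
    (hψ : Function.Surjective ψ) (P : Subgroup K) (hker : ψ.ker ≤ P) (hpow : ∀ k, k ^ 10 ∈ P) : P = ⊤ := by
  refine (Subgroup.eq_top_iff' P).2 fun k => ?_
  obtain ⟨c, d, e⟩ := (by decide +kernel : ∀ a : alternatingGroup (Fin 5),
    ∃ c d, a = c ^ 10 * d ^ 10) (ψ k)
  obtain ⟨c, rfl⟩ := hψ c
  obtain ⟨d, rfl⟩ := hψ d
  have h : k * (c ^ 10 * d ^ 10)⁻¹ ∈ ψ.ker := by
    rw [MonoidHom.mem_ker, map_mul, map_inv, map_mul, map_pow, map_pow, ← e, mul_inv_cancel]
  have := P.mul_mem (hker h) (P.mul_mem (hpow c) (hpow d))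
  rwa [inv_mul_cancel_right] at this

variable {G : Type u} [Group G] [Finite G]

/-- `LG` is a complement of `⟨b⟩` in the centralizer of `b`. -/
structure Compl (b : G) (LG : Subgroup G) : Prop where
  le : ∀ l ∈ LG, Commute l b
  dec : ∀ h, Commute h b → ∃ c ∈ Subgroup.zpowers b, h * c ∈ LG
  inf : ∀ c ∈ Subgroup.zpowers b, c ∈ LG → c = 1

theorem pow_five_of_mem {b c : G} (h5 : b ^ 5 = 1) (hc : c ∈ Subgroup.zpowers b) : c ^ 5 = 1 := by
  obtain ⟨i, rfl⟩ := Subgroup.mem_zpowers_iff.1 hc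
  rw [← zpow_natCast, ← zpow_mul, mul_comm, zpow_mul, zpow_natCast, h5, one_zpow]

theorem eq_one_of_pow {c : G} (h5 : c ^ 5 = 1) (h4 : c ^ 4 = 1) : c = 1 := by
  rwa [pow_succ, h4, one_mul] at h5

theorem Compl.mem_of_pow_four {b q : G} {LG : Subgroup G} (h : Compl b LG) (h5 : b ^ 5 = 1)
    (hq : Commute q b) (h4 : q ^ 4 = 1) : q ∈ LG := by
  obtain ⟨c, hc, hqc⟩ := h.dec q hq
  have hcq : Commute q c := by
    obtain ⟨i, rfl⟩ := Subgroup.mem_zpowers_iff.1 hc
    exact hq.zpow_right i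
  have h1 := LG.pow_mem hqc 4
  rw [hcq.mul_pow, h4, one_mul] at h1
  have hc1 := eq_one_of_pow (pow_five_of_mem h5 hc) (h.inf _ (Subgroup.pow_mem _ hc 4) h1)
  rwa [hc1, mul_one] at hqc

namespace Adapted

variable {S : Sys G} {s b : G} {π : G → V8} (A : Adapted S s b π) {LG : Subgroup G} (hL : Compl b LG)
include A hL

theorem fst_le_compl {q : G} (hq : q ∈ A.fstPart) : q ∈ LG :=
  hL.mem_of_pow_four A.five (A.mem_fstPart.1 hq).2.symm (A.model.pow_four hq.1)

theorem compl_facts {k : G} (hk : k ∈ LG) (hks : Commute k s) :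
    ∀ m ∈ A.k2, Commute k m := by
  classical
  set K1 := LG ⊓ Subgroup.centralizer ({s} : Set G) with hK1
  have hle : K1 ≤ A.cb := fun l hl => A.mem_cb.2 ⟨Subgroup.mem_centralizer_singleton_iff.1 hl.2, hL.le l hl.1⟩
  let ψ : K1 →* alternatingGroup (Fin 5) := A.toAlt.comp (Subgroup.inclusion hle)
  have hψ : Function.Surjective ψ := by
    intro a
    obtain ⟨c, rfl⟩ := A.toAlt_surjective a
    obtain ⟨hcs, hcb⟩ := A.mem_cb.1 c.2
    obtain ⟨d, hd, hcd⟩ := hL.dec c hcb
    obtain ⟨i, rfl⟩ := Subgroup.mem_zpowers_iff.1 hd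
    have hmem : (c : G) * b ^ i ∈ K1 :=
      ⟨hcd, Subgroup.mem_centralizer_singleton_iff.2 (hcs.mul_left (A.comm.zpow_left i))⟩
    refine ⟨⟨_, hmem⟩, ?_⟩
    have hbcb : b ∈ A.cb := A.mem_cb.2 ⟨A.comm, Commute.refl b⟩
    have e : Subgroup.inclusion hle ⟨_, hmem⟩ = c * (⟨b, hbcb⟩ : A.cb) ^ i := Subtype.ext (by simp)
    show A.toAlt _ = _
    rw [e, map_mul, map_zpow, A.toAlt_b, one_zpow, mul_one]
  have hker : ∀ l : K1, ψ l = 1 → (l : G) ∈ A.fstPart := by
    intro l hl
    obtain ⟨i, hi⟩ := A.of_toAlt_one (c := Subgroup.inclusion hle l) hl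
    have h1 : (b ^ i)⁻¹ * (l : G) ∈ LG := A.fst_le_compl hL hi
    have h2 : (b ^ i)⁻¹ ∈ LG := by simpa using LG.mul_mem h1 (LG.inv_mem l.2.1)
    have h3 := hL.inf _ (Subgroup.inv_mem _ (Subgroup.pow_mem _ (Subgroup.mem_zpowers b) i)) h2
    have hi' : (b ^ i)⁻¹ * (l : G) ∈ A.fstPart := hi
    rwa [h3, one_mul] at hi'
  -- trivial on the second summand
  have hθ : ∀ l : K1, (A.theta (Subgroup.inclusion hle l)).2 = 1 := by
    let P : Subgroup K1 := ((MonoidHom.snd _ _).comp (A.theta.comp (Subgroup.inclusion hle))).ker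
    have hP : P = ⊤ := by
      refine eq_top_of_tenth ψ hψ P (fun l hl => ?_) fun l => ?_
      · have hf := hker l hl
        show (A.theta (Subgroup.inclusion hle l)).2 = 1
        rw [A.theta_eq (c := Subgroup.inclusion hle l) (g := 1) (by rw [map_one]; exact A.model.acts_mem hf.1)]
        rfl
      · obtain ⟨-, -, i, hi⟩ := A.theta_spec (Subgroup.inclusion hle l)
        show (A.theta (Subgroup.inclusion hle (l ^ 10))).2 = 1
        rw [map_pow, map_pow, Prod.pow_snd, hi, ← pow_mul, show i * 10 = 5 * (2 * i) by ring, pow_mul, f4_five,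
          one_pow]
    exact fun l => (hP.ge (Subgroup.mem_top l) :)
  intro m hm
  let P : Subgroup K1 := (Subgroup.centralizer ({m} : Set G)).subgroupOf K1
  have hP : P = ⊤ := by
    refine eq_top_of_tenth ψ hψ P (fun l hl => ?_) fun l => ?_
    · exact Subgroup.mem_centralizer_singleton_iff.2 ((A.mem_k2.1 hm).2 _ (hker l hl)).symm.eq
    · have hls : Commute (l : G) s := Subgroup.mem_centralizer_singleton_iff.1 l.2.2
      have h2 : Commute ((l : G) ^ 2) m := by
        refine conj_eq_iff_commute.1 ?_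
        rw [show (l : G) ^ 2 * m * ((l : G) ^ 2)⁻¹ = l * (l * m * (l : G)⁻¹) * (l : G)⁻¹ by rw [pow_two]; group]
        rcases A.comm_cases (hle l.2) (hθ l) hm with e | e
        · rw [mul_inv_eq_one] at e; rw [e, e]
        · rw [mul_inv_eq_iff_eq_mul] at e
          rw [e, show (l : G) * (s * m) * (l : G)⁻¹ = l * s * (l : G)⁻¹ * (l * m * (l : G)⁻¹) by group,
            conj_eq_iff_commute.2 hls, e, ← mul_assoc, A.model.sq_one, one_mul]
      refine Subgroup.mem_centralizer_singleton_iff.2 ?_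
      rw [map_pow, Subgroup.coe_subtype, show 10 = 2 * 5 by norm_num, pow_mul]
      exact (h2.pow_left 5).eq
  exact Subgroup.mem_centralizer_singleton_iff.1
    (hP.ge (Subgroup.mem_top (⟨k, hk, Subgroup.mem_centralizer_singleton_iff.2 hks⟩ : K1)))

end Adapted

end CfsgLib.CoOneJTwo
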