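import Cfsg.Agent.Lib.CoOneJTwo.Conj

/-!
# The centralizer of the fixed part of the extraspecial subgroup
-/

set_option autoImplicit false
set_option linter.style.haveILetI false
set_option linter.unusedSectionVars false
set_option synthInstance.maxSize 20000
set_option maxRecDepth 10000

namespace CfsgLib.CoOneJTwo

open CfsgLib.Classical.Quad
open CfsgLib.SuzType (W4 q4 B4 zcases w4_add_self)

universe u

variable {G : Type u} [Group G]

theorem card_sgn_ker : Nat.card sgn.ker = 60 := by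
  rw [Nat.card_congr (MulEquiv.ofBijective evenHom evenHom_bijective).toEquiv, Nat.card_eq_fintype_card]
  decide +kernel

/-- An isometry fixing the first summand. -/
theorem split_of_fix {g : Orth Q8} (h : ∀ x : W4, g.1 (x, 0) = (x, 0)) :
    ∃ g2 : Orth Q4, g = inj (1, g2) := by
  have hfst : ∀ y : W4, (g.1 (0, y)).1 = 0 := fun y => by
    refine nd4 _ fun x => ?_
    rw [polar_Q4]
    have := B8_g g (0, y) (x, 0)
    rw [h, B8, B8] at this
    simpa using this
  let l2 : W4 →ₗ[ZMod 2] W4 :=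
    (LinearMap.snd _ _ _).comp ((g.1 : V8 →ₗ[ZMod 2] V8).comp (LinearMap.inr (ZMod 2) W4 W4))
  have i2 : Function.Injective l2 := fun a c e => by
    have e' : (g.1 (0, a)).2 = (g.1 (0, c)).2 := e
    exact congrArg Prod.snd (g.1.injective (Prod.ext ((hfst a).trans (hfst c).symm) e') : ((0, a) : V8) = (0, c))
  let g2 : Orth Q4 := ⟨LinearEquiv.ofBijective l2 ⟨i2, Finite.surjective_of_injective i2⟩, fun y => by
    have h' := q8_g g (0, y)
    rw [q8, q8, hfst, add_right_inj] at h'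
    exact h'⟩
  refine ⟨g2, orth_ext fun x => ?_⟩
  rw [inj_apply, one_apply]
  conv_lhs => rw [show x = (x.1, 0) + (0, x.2) by simp, g8_add, h]
  exact Prod.ext (by rw [Prod.fst_add, hfst, add_zero]) (by rw [Prod.snd_add, zero_add]; rfl)

theorem perp_line : ∀ w : W4, w ≠ 0 → ∀ a : W4, (∀ x, B4 x w = 0 → B4 a x = 0) → a = 0 ∨ a = w := by
  decide +kernel

theorem exists_partner : ∀ w : W4, w ≠ 0 → ∃ e : W4, B4 e w = 1 := by decide

namespace Adapted

variable {S : Sys G} {s b : G} {π : G → V8} (A : Adapted S s b π)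
include A

/-- The elements of `E s` with image in the first summand. -/
def fstPart : Subgroup G where
  carrier := {q | q ∈ S.E s ∧ (π q).2 = 0}
  one_mem' := ⟨(S.E s).one_mem, by rw [A.model.map_one]; rfl⟩
  mul_mem' := by
    rintro p q ⟨hp, hp'⟩ ⟨hq, hq'⟩
    exact ⟨(S.E s).mul_mem hp hq, by rw [A.model.map_mul p hp q hq, Prod.snd_add, hp', hq', add_zero]⟩
  inv_mem' := by
    rintro p ⟨hp, hp'⟩
    exact ⟨(S.E s).inv_mem hp, by rw [A.model.map_inv hp]; exact hp'⟩

theorem mem_fstPart {q : G} : q ∈ A.fstPart ↔ q ∈ S.E s ∧ Commute b q :=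
  ⟨fun h => ⟨h.1, A.commute_of_snd h.1 h.2⟩, fun h => ⟨h.1, A.snd_of_commute h.1 h.2⟩⟩

theorem card_part [Finite G] (ι : W4 → V8) (hι : Function.Injective ι) (P : Subgroup G) (hP : P ≤ S.E s)
    (hmem : ∀ q ∈ S.E s, (q ∈ P ↔ ∃ x, π q = ι x)) : Nat.card P = 32 := by
  choose lift hlift hliftπ using fun x => A.model.surj (ι x)
  have hm : ∀ (x : W4) (c : ZMod 2), lift x * pw s c ∈ P := fun x c =>
    (hmem _ ((S.E s).mul_mem (hlift x) (A.model.pw_mem c))).2
      ⟨x, by rw [A.model.map_mul _ (hlift x) _ (A.model.pw_mem c), A.model.map_pw, add_zero, hliftπ]⟩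
  let φ : W4 × ZMod 2 → P := fun p => ⟨lift p.1 * pw s p.2, hm p.1 p.2⟩
  have hb : Function.Bijective φ := by
    constructor
    · intro p q e
      have e' : lift p.1 * pw s p.2 = lift q.1 * pw s q.2 := congrArg Subtype.val e
      have h1 := congrArg π e'
      rw [A.model.map_mul _ (hlift _) _ (A.model.pw_mem _), A.model.map_mul _ (hlift _) _ (A.model.pw_mem _),
        A.model.map_pw, A.model.map_pw, add_zero, add_zero, hliftπ, hliftπ] at h1
      have hx := hι h1
      refine Prod.ext hx (pw_inj A.model.ne_one ?_)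
      rw [hx] at e'
      exact mul_left_cancel e'
    · rintro ⟨q, hq⟩
      obtain ⟨x, hx⟩ := (hmem q (hP hq)).1 hq
      rcases A.model.eq_of_map (hP hq) (hlift x) (by rw [hx, hliftπ]) with e | e
      · exact ⟨(x, 0), Subtype.ext (by show lift x * pw s 0 = q; rw [pw_zero, mul_one, e])⟩
      · exact ⟨(x, 1), Subtype.ext (by show lift x * pw s 1 = q; rw [pw_one, e])⟩
  rw [← Nat.card_eq_of_bijective φ hb]
  simp [W4]

theorem card_fstPart [Finite G] : Nat.card A.fstPart = 32 :=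
  A.card_part (fun x => (x, 0)) (fun _ _ h => congrArg Prod.fst h) _ (fun _ hq => hq.1) fun q hq =>
    ⟨fun h => ⟨(π q).1, Prod.ext rfl h.2⟩, fun ⟨x, hx⟩ => ⟨hq, by rw [hx]⟩⟩

theorem card_sndPart [Finite G] : Nat.card A.sndPart = 32 :=
  A.card_part (fun x => (0, x)) (fun _ _ h => congrArg Prod.snd h) _ (fun _ hq => hq.1) fun q hq =>
    ⟨fun h => ⟨(π q).2, Prod.ext h.2 rfl⟩, fun ⟨x, hx⟩ => ⟨hq, by rw [hx]⟩⟩

/-- The common centralizer of `s` and `b`. -/
def cb (_A : Adapted S s b π) : Subgroup G := Subgroup.centralizer ({s} : Set G) ⊓ Subgroup.centralizer ({b} : Set G)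

theorem mem_cb {c : G} : c ∈ A.cb ↔ Commute c s ∧ Commute c b :=
  and_congr Subgroup.mem_centralizer_singleton_iff Subgroup.mem_centralizer_singleton_iff

theorem exists_pairs (c : A.cb) : ∃ g : Orth Q4 × Orth Q4,
    Acts s (S.E s) π c (inj g) ∧ sgn g.1 = 1 ∧ ∃ i : ℕ, g.2 = f4 ^ i := by
  obtain ⟨g1, i, h, ha⟩ := A.image (A.mem_cb.1 c.2).1 (A.mem_cb.1 c.2).2
  exact ⟨(g1, f4 ^ i), ha, h, i, rfl⟩

/-- The two components of the action of the common centralizer. -/
noncomputable def theta : A.cb →* Orth Q4 × Orth Q4 :=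
  MonoidHom.mk' (fun c => (A.exists_pairs c).choose) fun c d => inj_injective (by
    rw [map_mul]
    exact A.model.acts_unique (A.exists_pairs (c * d)).choose_spec.1
      (A.model.acts_mul (A.exists_pairs c).choose_spec.1 (A.exists_pairs d).choose_spec.1))

theorem theta_spec (c : A.cb) : Acts s (S.E s) π c (inj (A.theta c)) ∧ sgn (A.theta c).1 = 1 ∧
    ∃ i : ℕ, (A.theta c).2 = f4 ^ i :=
  (A.exists_pairs c).choose_spec

theorem theta_eq {c : A.cb} {g : Orth Q4 × Orth Q4} (h : Acts s (S.E s) π c (inj g)) : A.theta c = g :=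
  inj_injective (A.model.acts_unique (A.theta_spec c).1 h)

/-- The action on the first summand. -/
noncomputable def toAlt : A.cb →* alternatingGroup (Fin 5) :=
  evenHom.comp (((MonoidHom.fst _ _).comp A.theta).codRestrict sgn.ker fun c => (A.theta_spec c).2.1)

theorem toAlt_eq_one {c : A.cb} : A.toAlt c = 1 ↔ (A.theta c).1 = 1 := by
  rw [toAlt, MonoidHom.comp_apply, map_eq_one_iff _ evenHom_bijective.1]
  exact ⟨fun e => congrArg Subtype.val e, fun e => Subtype.ext e⟩

theorem toAlt_surjective [Finite G] : Function.Surjective A.toAlt := by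
  intro a
  obtain ⟨⟨g1, hg1⟩, rfl⟩ := evenHom_bijective.2 a
  obtain ⟨c, hc, hcb⟩ := A.lift (g := inj (g1, 1)) ((inj_mem_iff _ _).2 (hg1.trans (map_one sgn).symm))
    (by
      show inj (g1, 1) * inj (1, f4) = inj (1, f4) * inj (g1, 1)
      rw [← map_mul, ← map_mul]; simp)
  refine ⟨⟨c, A.mem_cb.2 ⟨hc.1, hcb⟩⟩, ?_⟩
  rw [toAlt, MonoidHom.comp_apply]
  refine congrArg evenHom (Subtype.ext ?_)
  show (A.theta ⟨c, _⟩).1 = g1
  rw [A.theta_eq (c := ⟨c, A.mem_cb.2 ⟨hc.1, hcb⟩⟩) hc]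

theorem fstPart_le_cb : A.fstPart ≤ A.cb := fun q hq =>
  A.mem_cb.2 ⟨A.model.le_cent q hq.1, (A.commute_of_snd hq.1 hq.2).symm⟩

theorem toAlt_fst {q : G} (hq : q ∈ A.fstPart) : A.toAlt ⟨q, A.fstPart_le_cb hq⟩ = 1 := by
  rw [A.toAlt_eq_one, A.theta_eq (c := ⟨q, A.fstPart_le_cb hq⟩) (g := 1) (by rw [map_one]; exact A.model.acts_mem hq.1)]
  rfl

theorem toAlt_b (h : b ∈ A.cb) : A.toAlt ⟨b, h⟩ = 1 := by
  rw [A.toAlt_eq_one, A.theta_eq (c := ⟨b, h⟩) (g := (1, f4)) A.acts]

theorem of_toAlt_one {c : A.cb} (h : A.toAlt c = 1) : ∃ i : ℕ, (b ^ i)⁻¹ * (c : G) ∈ A.fstPart := by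
  obtain ⟨ha, -, i, hi⟩ := A.theta_spec c
  rw [toAlt_eq_one] at h
  have e : inj (A.theta c) = b2 ^ i := by
    rw [b2, ← map_pow, Prod.pow_mk, one_pow, ← h, ← hi]
  have h1 := A.model.acts_mul (A.model.acts_inv (A.model.acts_pow A.acts i)) (e ▸ ha)
  rw [inv_mul_cancel] at h1
  have hmem := A.model.faith _ h1
  exact ⟨i, A.mem_fstPart.2 ⟨hmem, ((Commute.refl b).pow_right i).inv_right.mul_right (A.mem_cb.1 c.2).2.symm⟩⟩

/-- The centralizer of the first part. -/
def k2 : Subgroup G :=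
  Subgroup.centralizer ({s} : Set G) ⊓ Subgroup.centralizer (A.fstPart : Set G)

theorem mem_k2 {c : G} : c ∈ A.k2 ↔ Commute c s ∧ ∀ q ∈ A.fstPart, Commute c q := by
  rw [k2, Subgroup.mem_inf, Subgroup.mem_centralizer_singleton_iff, Subgroup.mem_centralizer_iff]
  exact and_congr Iff.rfl ⟨fun h q hq => (h q hq).symm, fun h q hq => (h q hq).symm.eq⟩

theorem b_mem_k2 : b ∈ A.k2 := A.mem_k2.2 ⟨A.comm, fun _ hq => (A.mem_fstPart.1 hq).2⟩

theorem k2_inf {q : G} (hq : q ∈ S.E s) : q ∈ A.k2 ↔ q ∈ A.sndPart := by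
  rw [A.mem_k2, A.mem_sndPart]
  refine ⟨fun h => ⟨hq, nd4 _ fun x => ?_⟩, fun h => ⟨A.model.le_cent q hq, fun p hp => ?_⟩⟩
  · obtain ⟨p, hp, e, hbp⟩ := A.exists_fixed_lift x
    have := (A.model.commute_iff hq hp).1 (h.2 p (A.mem_fstPart.2 ⟨hp, hbp⟩))
    rw [e, B8, CfsgLib.SuzType.B4_zero_right, add_zero] at this
    rw [polar_Q4]; exact this
  · refine (A.model.commute_iff hq hp.1).2 ?_
    rw [B8, h.2, hp.2, CfsgLib.SuzType.B4_zero_left, CfsgLib.SuzType.B4_zero_right, add_zero]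

theorem k2_action {c : G} (hc : c ∈ A.k2) :
    ∃ g2 : Orth Q4, sgn g2 = 1 ∧ Acts s (S.E s) π c (inj (1, g2)) := by
  obtain ⟨hcs, hcq⟩ := A.mem_k2.1 hc
  obtain ⟨g, hgE, hg⟩ := A.model.act c hcs
  obtain ⟨g2, rfl⟩ := split_of_fix (g := g) fun x => by
    obtain ⟨q, hq, e, hbq⟩ := A.exists_fixed_lift x
    rw [← e, A.model.map_conj_fix hg hq (hcq q (A.mem_fstPart.2 ⟨hq, hbq⟩))]
  exact ⟨g2, by rw [← (inj_mem_iff _ _).1 hgE, map_one], hg⟩

/-- The action of the centralizer of the first part on the second summand. -/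
noncomputable def k2Hom : A.k2 →* Orth Q4 :=
  MonoidHom.mk' (fun c => (A.k2_action c.2).choose) fun c d => by
    have e := inj_injective ((A.model.acts_unique (A.k2_action (c * d).2).choose_spec.2
      (A.model.acts_mul (A.k2_action c.2).choose_spec.2 (A.k2_action d.2).choose_spec.2)).trans
        (map_mul inj _ _).symm)
    exact congrArg Prod.snd e

theorem k2Hom_spec (c : A.k2) : sgn (A.k2Hom c) = 1 ∧ Acts s (S.E s) π c (inj (1, A.k2Hom c)) :=
  (A.k2_action c.2).choose_spec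

theorem k2Hom_eq_one {c : A.k2} : A.k2Hom c = 1 ↔ (c : G) ∈ A.sndPart := by
  constructor
  · intro h
    have ha := (A.k2Hom_spec c).2
    rw [h, show ((1, 1) : Orth Q4 × Orth Q4) = 1 from rfl, map_one] at ha
    exact (A.k2_inf (A.model.faith _ ha)).1 c.2
  · intro h
    have h1 := A.model.acts_unique (A.k2Hom_spec c).2 (A.model.acts_mem h.1)
    exact congrArg Prod.snd (inj_injective (h1.trans (map_one inj).symm))

theorem k2Hom_range [Finite G] : A.k2Hom.range = sgn.ker := by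
  refine le_antisymm ?_ fun g2 hg2 => ?_
  · rintro _ ⟨c, rfl⟩; exact (A.k2Hom_spec c).1
  obtain ⟨c, hc⟩ := A.model.lift (inj (1, g2)) ((inj_mem_iff _ _).2 ((map_one sgn).trans hg2.symm))
  choose q hq hqπ hbq using A.exists_fixed_lift
  have hconj : ∀ x, ∃ e : ZMod 2, c * q x * c⁻¹ = q x * pw s e := fun x => by
    have hm := A.model.normal c hc.1 _ (hq x)
    rcases A.model.eq_of_map hm (hq x) (by rw [hc.2 _ (hq x), hqπ, inj_apply, one_apply, map_zero]) with e | e
    · exact ⟨0, by rw [pw_zero, mul_one]; exact e⟩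
    · exact ⟨1, by rw [pw_one]; exact e⟩
  choose lam hlam using hconj
  have hlin : ∀ p ∈ A.fstPart, c * p * c⁻¹ = p * pw s (lam (π p).1) := by
    intro p hp
    rcases A.model.eq_of_map hp.1 (hq (π p).1) (by rw [hqπ]; exact Prod.ext rfl hp.2) with e | e
    · conv_lhs => rw [e]
      rw [hlam, ← e]
    · conv_lhs => rw [e]
      rw [show c * (q (π p).1 * s) * c⁻¹ = c * q (π p).1 * c⁻¹ * (c * s * c⁻¹) by group, hlam,
        conj_eq_iff_commute.2 hc.1, mul_assoc, (commute_pw (Commute.refl s) _).symm.eq, ← mul_assoc, ← e]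
  have hadd : ∀ x x', lam (x + x') = lam x + lam x' := by
    intro x x'
    have hp : q x * q x' ∈ A.fstPart := A.mem_fstPart.2 ⟨(S.E s).mul_mem (hq x) (hq x'), (hbq x).mul_right (hbq x')⟩
    have h1 := hlin _ hp
    rw [A.model.map_mul _ (hq x) _ (hq x'), hqπ, hqπ,
      show c * (q x * q x') * c⁻¹ = c * q x * c⁻¹ * (c * q x' * c⁻¹) by group, hlam, hlam,
      show q x * pw s (lam x) * (q x' * pw s (lam x')) = q x * (pw s (lam x) * q x') * pw s (lam x') by group,
      (commute_pw (A.model.le_cent _ (hq x')) _).symm.eq,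
      show q x * (q x' * pw s (lam x)) * pw s (lam x') = q x * q x' * (pw s (lam x) * pw s (lam x')) by group,
      ← pw_add A.model.sq_one, mul_right_inj] at h1
    exact (pw_inj A.model.ne_one h1).symm
  set y : W4 := (lam (0, 1, 0, 0), lam (1, 0, 0, 0), lam CfsgLib.SuzType.vd, lam CfsgLib.SuzType.w0) with hy
  have hform : ∀ x, lam x = B4 y x := by
    intro x
    let L : W4 →+ ZMod 2 := AddMonoidHom.mk' lam hadd
    show (L.toZModLinearMap 2) x = _
    conv_lhs => rw [(by decide : ∀ x : W4, x = x.1 • ((1, 0, 0, 0) : W4) + x.2.1 • ((0, 1, 0, 0) : W4) +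
      x.2.2.1 • CfsgLib.SuzType.w0 + x.2.2.2 • CfsgLib.SuzType.vd) x]
    simp only [map_add, map_smul, AddMonoidHom.coe_toZModLinearMap, L, AddMonoidHom.mk'_apply, smul_eq_mul,
      B4, hy]
    ring
  have ha : Acts s (S.E s) π (q y * c) (inj (1, g2)) := by
    simpa using A.model.acts_mul (A.model.acts_mem (hq y)) hc
  have hmem : q y * c ∈ A.k2 := A.mem_k2.2 ⟨ha.1, fun p hp => conj_eq_iff_commute.1 (by
    rw [show q y * c * p * (q y * c)⁻¹ = q y * (c * p * c⁻¹) * (q y)⁻¹ by group, hlin p hp,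
      show q y * (p * pw s (lam (π p).1)) * (q y)⁻¹ =
        q y * p * (q y)⁻¹ * (q y * pw s (lam (π p).1) * (q y)⁻¹) by group,
      conj_eq_iff_commute.2 (commute_pw (A.model.le_cent _ (hq y)) _), A.model.conj_eq (hq y) hp.1, mul_assoc,
      ← pw_add A.model.sq_one, hqπ, B8, hp.2, CfsgLib.SuzType.B4_zero_right, add_zero, hform,
      CharTwo.add_self_eq_zero, pw_zero, mul_one])⟩
  exact ⟨⟨q y * c, hmem⟩, congrArg Prod.snd (inj_injective
    (A.model.acts_unique (A.k2Hom_spec ⟨_, hmem⟩).2 ha))⟩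

theorem card_k2 [Finite G] : Nat.card A.k2 = 1920 := by
  have h := A.k2Hom.ker.card_mul_index
  rw [Subgroup.index_ker, A.k2Hom_range, card_sgn_ker] at h
  rw [← h, show Nat.card A.k2Hom.ker = 32 by
    rw [← A.card_sndPart]
    exact Nat.card_congr
      { toFun := fun c => ⟨c.1.1, A.k2Hom_eq_one.1 (MonoidHom.mem_ker.1 c.2)⟩
        invFun := fun q => ⟨⟨q.1, (A.k2_inf q.2.1).2 q.2⟩, MonoidHom.mem_ker.2 (A.k2Hom_eq_one.2 q.2)⟩
        left_inv := fun _ => rfl
        right_inv := fun _ => rfl }]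

/-- Commutators between elements acting on the two summands. -/
theorem comm_cases {k m : G} (hk : k ∈ A.cb) (hθ : (A.theta ⟨k, hk⟩).2 = 1) (hm : m ∈ A.k2) :
    k * m * k⁻¹ * m⁻¹ = 1 ∨ k * m * k⁻¹ * m⁻¹ = s := by
  obtain ⟨hks, hkb⟩ := A.mem_cb.1 hk
  have hka := (A.theta_spec ⟨k, hk⟩).1
  generalize hg : A.theta ⟨k, hk⟩ = g at hka hθ
  obtain ⟨g1, g2⟩ := g
  subst hθ
  obtain ⟨hms, hmq⟩ := A.mem_k2.1 hm
  have hma := (A.k2Hom_spec ⟨m, hm⟩).2
  generalize A.k2Hom ⟨m, hm⟩ = h2 at hma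
  set D := k * m * k⁻¹ * m⁻¹ with hD
  have hDE : D ∈ S.E s := by
    refine A.model.faith D ?_
    have h1 := A.model.acts_mul (A.model.acts_conj hka hma) (A.model.acts_inv hma)
    rwa [← map_inv inj (g1, 1), ← map_mul, ← map_mul, ← map_inv inj (1, h2), ← map_mul,
      show ((g1, 1) * (1, h2) * (g1, 1)⁻¹ * (1, h2)⁻¹ : Orth Q4 × Orth Q4) = 1 by
        ext1 <;> simp, map_one] at h1
  have hfst : ∀ q ∈ A.fstPart, Commute D q := by
    intro q hq
    have hkq : k⁻¹ * q * k ∈ A.fstPart := by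
      refine A.mem_fstPart.2 ⟨?_, ?_⟩
      · have := A.model.normal k⁻¹ hks.inv_left q hq.1
        rwa [inv_inv] at this
      · exact (hkb.symm.inv_right.mul_right (A.mem_fstPart.1 hq).2).mul_right hkb.symm
    have h1 : Commute (k * m * k⁻¹) q := by
      have := (Commute.conj_iff k).2 (hmq _ hkq)
      rwa [show k * (k⁻¹ * q * k) * k⁻¹ = q by group] at this
    exact h1.mul_left (hmq q hq).inv_left
  have hsnd : ∀ q ∈ A.sndPart, Commute D q := by
    intro q hq
    have hmq' : m⁻¹ * q * m ∈ A.sndPart := by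
      have hmem := A.model.normal m⁻¹ hms.inv_left q hq.1
      rw [inv_inv] at hmem
      refine ⟨hmem, ?_⟩
      have h1 := (A.model.acts_inv hma).2 q hq.1
      rw [inv_inv, ← map_inv inj (1, h2)] at h1
      rw [h1]
      show ((inj (1⁻¹, h2⁻¹)).1 (π q)).1 = 0
      rw [inj_apply, inv_one, one_apply]
      exact hq.2
    have hk1 := A.commute_sndPart hka hkb hmq'
    have hk2 := A.commute_sndPart hka hkb hq
    refine conj_eq_iff_commute.1 ?_
    calc D * q * D⁻¹ = k * m * (k⁻¹ * (m⁻¹ * q * m) * k) * m⁻¹ * k⁻¹ := by rw [hD]; group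
      _ = k * m * (m⁻¹ * q * m) * m⁻¹ * k⁻¹ := by rw [mul_assoc k⁻¹, ← hk1.eq, inv_mul_cancel_left]
      _ = k * q * k⁻¹ := by group
      _ = q := conj_eq_iff_commute.2 hk2
  refine A.model.central hDE fun q hq => ?_
  refine (A.model.commute_iff hDE hq).2 ?_
  obtain ⟨p, hp, ep, hbp⟩ := A.exists_fixed_lift (π q).1
  obtain ⟨r, hr, er⟩ := A.model.surj (0, (π q).2)
  have h1 := (A.model.commute_iff hDE hp).1 (hfst p (A.mem_fstPart.2 ⟨hp, hbp⟩))
  have h2' := (A.model.commute_iff hDE hr).1 (hsnd r ⟨hr, by rw [er]⟩)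
  rw [ep] at h1
  rw [er] at h2'
  rw [show π q = ((π q).1, 0) + (0, (π q).2) by simp, B8_add_right, h1, h2', add_zero]

/-- The common centralizer of `s`, `u` and the fixed elements commuting with `u`. -/
def mGroup (u : G) : Subgroup G :=
  Subgroup.centralizer ({s} : Set G) ⊓ Subgroup.centralizer ({u} : Set G) ⊓
    Subgroup.centralizer {q | q ∈ A.fstPart ∧ Commute q u}

set_option maxHeartbeats 2000000 in
theorem card_mGroup [Finite G] {u : G} (hu : u ∈ A.fstPart) (huu : u * u = 1) (hu1 : u ≠ 1) (hus : u ≠ s) :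
    Nat.card (A.mGroup u) ≤ 61440 := by
  classical
  set w := (π u).1 with hwdef
  have hπu : π u = (w, 0) := Prod.ext rfl hu.2
  have hw0 : w ≠ 0 := fun e => by
    rcases (A.model.ker u hu.1).1 (by rw [hπu, e]; rfl) with e | e
    exacts [hu1 e, hus e]
  have hwq : q4 w = 0 := by
    have := (A.model.sq_eq_one hu.1).1 huu
    rw [hπu, q8, show q4 (0 : W4) = 0 from rfl, add_zero] at this
    exact this
  -- the matrix group
  let A' : Subgroup (Orth Q8) :=
    { carrier := {g | ∀ x : W4, B4 x w = 0 → g.1 (x, 0) = (x, 0)}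
      one_mem' := fun x _ => rfl
      mul_mem' := fun {g h} hg hh x hx => by rw [mul_apply, hh x hx, hg x hx]
      inv_mem' := fun {g} hg x hx => by
        conv_lhs => rw [← hg x hx]
        rw [inv_apply_self] }
  obtain ⟨e, he⟩ := exists_partner w hw0
  have hwperp : B4 w w = 0 := (by decide : ∀ a : W4, B4 a a = 0) w
  have hA' : ∀ g ∈ A', ∀ y : W4, ((g.1 (0, y)).1 = 0 ∨ (g.1 (0, y)).1 = w) ∧ q4 ((g.1 (0, y)).2) = q4 y := by
    intro g hg y
    have h1 : (g.1 (0, y)).1 = 0 ∨ (g.1 (0, y)).1 = w := by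
      refine perp_line w hw0 _ fun x hx => ?_
      have := B8_g g (0, y) (x, 0)
      rw [hg x hx, B8, B8] at this
      simpa using this
    refine ⟨h1, ?_⟩
    have h2 := q8_g g (0, y)
    rw [q8, q8] at h2
    rcases h1 with e1 | e1 <;> rw [e1] at h2
    · exact add_left_cancel h2
    · rw [hwq] at h2; exact add_left_cancel (a := (0 : ZMod 2)) h2
  have hθ : ∀ g : A', ∃ t : Orth Q4, ∀ y, t.1 y = (g.1.1 (0, y)).2 := by
    intro g
    let l : W4 →ₗ[ZMod 2] W4 :=
      (LinearMap.snd _ _ _).comp ((g.1.1 : V8 →ₗ[ZMod 2] V8).comp (LinearMap.inr (ZMod 2) W4 W4))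
    have il : Function.Injective l := by
      refine (injective_iff_map_eq_zero l).2 fun y hy => ?_
      have hy' : (g.1.1 (0, y)).2 = 0 := hy
      rcases (hA' g.1 g.2 y).1 with e1 | e1
      · have h0 : g.1.1 (0, y) = 0 := Prod.ext e1 hy'
        rw [LinearEquiv.map_eq_zero_iff] at h0
        exact congrArg Prod.snd h0
      · have h0 : g.1.1 (0, y) = g.1.1 (w, 0) := by rw [g.2 w hwperp]; exact Prod.ext e1 hy'
        exact congrArg Prod.snd (g.1.1.injective h0)
    exact ⟨⟨LinearEquiv.ofBijective l ⟨il, Finite.surjective_of_injective il⟩, fun y => (hA' g.1 g.2 y).2⟩,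
      fun y => rfl⟩
  choose t ht using hθ
  have he' : ∀ g ∈ A', (g.1 (e, 0)).1 = e + (q4 ((g.1 (e, 0)).2)) • w := by
    intro g hg
    have hd : ((g.1 (e, 0)).1 + e = 0) ∨ ((g.1 (e, 0)).1 + e = w) := by
      refine perp_line w hw0 _ fun x hx => ?_
      have := B8_g g (e, 0) (x, 0)
      rw [hg x hx, B8, B8] at this
      simp only [CfsgLib.SuzType.B4_zero_right, add_zero] at this
      rw [CfsgLib.SuzType.B4_add_left, this, CharTwo.add_self_eq_zero]
    have hq := q8_g g (e, 0)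
    rw [q8, q8, show q4 (0 : W4) = 0 from rfl, add_zero] at hq
    have hqew : q4 (e + w) = q4 e + 1 :=
      (by decide +kernel : ∀ e w : W4, q4 w = 0 → B4 e w = 1 → q4 (e + w) = q4 e + 1) e w hwq he
    rcases hd with e1 | e1
    · have e2 := w4_add_eq e1
      rw [zero_add] at e2
      rw [e2, add_eq_left] at hq
      rw [e2, hq, zero_smul, add_zero]
    · have e2 := w4_add_eq e1
      rw [add_comm w e] at e2
      rw [e2, hqew, add_assoc, add_eq_left] at hq
      rw [e2, show q4 (g.1 (e, 0)).2 = 1 from (CfsgLib.SuzType.zadd.1 hq).symm, one_smul]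
  have hA'card : Nat.card A' ≤ 1920 := by
    have := Nat.card_le_card_of_injective (fun g : A' => (t g, (g.1.1 (e, 0)).2)) ?_
    · rwa [Nat.card_prod, card_orth4, show Nat.card W4 = 16 by simp [W4]] at this
    intro g g' heq
    obtain ⟨h1, h2⟩ := Prod.ext_iff.1 heq
    have h2' : (g.1.1 (e, 0)).2 = (g'.1.1 (e, 0)).2 := h2
    have hE : g.1.1 (e, 0) = g'.1.1 (e, 0) :=
      Prod.ext (by rw [he' _ g.2, he' _ g'.2, h2']) h2'
    have hY : ∀ y, g.1.1 (0, y) = g'.1.1 (0, y) := by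
      intro y
      have hsnd : (g.1.1 (0, y)).2 = (g'.1.1 (0, y)).2 := by rw [← ht g y, ← ht g' y, show t g = t g' from h1]
      refine Prod.ext ?_ hsnd
      have hval : ∀ g : A', B8 (g.1.1 (0, y)) (g.1.1 (e, 0)) = 0 := fun g => by
        rw [B8_g, B8]; simp
      have hBg := hval g
      have hBg' := hval g'
      rw [hE] at hBg
      rcases (hA' g.1 g.2 y).1 with e1 | e1 <;> rcases (hA' g'.1 g'.2 y).1 with e2 | e2 <;>
        rw [e1, e2]
      all_goals exfalso; rw [B8, e1] at hBg; rw [B8, e2] at hBg'; rw [hsnd] at hBg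
      all_goals
        have hBw : B4 w (g'.1.1 (e, 0)).1 = 1 := by
          rw [he' _ g'.2, CfsgLib.SuzType.B4_add_right, CfsgLib.SuzType.B4_comm, he]
          rcases zcases (q4 (g'.1.1 (e, 0)).2) with z | z <;> rw [z] <;> simp [hwperp]
        simp only [CfsgLib.SuzType.B4_zero_left, zero_add] at *
      · rw [hBg, add_zero] at hBg'; exact one_ne_zero (hBw.symm.trans hBg')
      · rw [hBg', add_zero] at hBg; exact one_ne_zero (hBw.symm.trans hBg)
    refine Subtype.ext (orth_ext fun v => ?_)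
    have hdec : v = (v.1 + B4 v.1 w • e, 0) + (B4 v.1 w) • ((e, 0) : V8) + (0, v.2) := by
      refine Prod.ext ?_ ?_
      · simp only [Prod.fst_add, Prod.smul_fst, add_zero]
        rw [add_assoc, w4_add_self, add_zero]
      · simp
    have hperp : B4 (v.1 + B4 v.1 w • e) w = 0 := by
      rcases zcases (B4 v.1 w) with z | z <;> rw [z]
      · simp [z]
      · rw [one_smul, CfsgLib.SuzType.B4_add_left, z, he]; decide
    rw [hdec]
    simp only [map_add, map_smul, g.2 _ hperp, g'.2 _ hperp, hE, hY]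
  -- the kernel
  have hM : ∀ c : A.mGroup u, Commute (c : G) s ∧ Commute (c : G) u ∧
      ∀ q, q ∈ A.fstPart → Commute q u → Commute (c : G) q := by
    rintro ⟨c, ⟨h1, h2⟩, h3⟩
    exact ⟨Subgroup.mem_centralizer_singleton_iff.1 h1, Subgroup.mem_centralizer_singleton_iff.1 h2,
      fun q hq hqu => ((Subgroup.mem_centralizer_iff.1 h3 q ⟨hq, hqu⟩).symm :)⟩
  choose γ hγE hγ using fun c : A.mGroup u => A.model.act c.1 (hM c).1
  let Γ : A.mGroup u →* Orth Q8 := MonoidHom.mk' γ fun p q =>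
    A.model.acts_unique (hγ (p * q)) (A.model.acts_mul (hγ p) (hγ q))
  have hlift : ∀ x : W4, B4 x w = 0 → ∃ q ∈ A.fstPart, π q = (x, 0) ∧ Commute q u := by
    intro x hx
    obtain ⟨q, hq, eq, hbq⟩ := A.exists_fixed_lift x
    refine ⟨q, A.mem_fstPart.2 ⟨hq, hbq⟩, eq, (A.model.commute_iff hq hu.1).2 ?_⟩
    rw [eq, hπu, B8, hx]; rfl
  have hrange : Γ.range ≤ A' ⊓ Ev := by
    rintro _ ⟨c, rfl⟩
    refine ⟨fun x hx => ?_, hγE c⟩
    obtain ⟨q, hq, eq, hqu⟩ := hlift x hx
    rw [← eq]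
    exact A.model.map_conj_fix (hγ c) hq.1 ((hM c).2.2 q hq hqu)
  have hrange' : Nat.card Γ.range ≤ 960 := by
    refine (Subgroup.card_le_of_le hrange).trans ?_
    have hnot : ¬ A' ≤ Ev := fun h => by
      have hq := (swap_sum 0 1 (by decide)).1
      refine refl_not_mem (a := (0, sv 0 + sv 1)) (by rw [q8, hq]; rfl) (h ?_)
      intro x _
      rw [← refl_snd hq, inj_apply, one_apply, map_zero]
    have h1 := Subgroup.relIndex_mul_relIndex ⊥ (A' ⊓ Ev) A' bot_le inf_le_left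
    rw [Subgroup.relIndex_bot_left, Subgroup.relIndex_bot_left, Subgroup.inf_relIndex_left] at h1
    have h2 : Ev.relIndex A' ≤ 2 := by
      have h := Subgroup.relIndex_le_of_le_right (H := Ev) (le_top : A' ≤ ⊤)
        (by rw [Subgroup.relIndex_top_right, index_Ev]; norm_num)
      rw [Subgroup.relIndex_top_right, index_Ev] at h
      exact h
    have h3 : Ev.relIndex A' ≠ 1 := fun h => hnot (Subgroup.relIndex_eq_one.1 h)
    have h4 : Ev.relIndex A' ≠ 0 := Subgroup.FiniteIndex.index_ne_zero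
    rw [show Ev.relIndex A' = 2 by omega] at h1
    omega
  have hker : Nat.card Γ.ker ≤ 64 := by
    have hE : ∀ c : Γ.ker, (c.1.1 : G) ∈ S.E s := fun c => A.model.faith _ (by
      have h := hγ c.1
      rwa [show γ c.1 = 1 from MonoidHom.mem_ker.1 c.2] at h)
    have hfst : ∀ c : Γ.ker, (π c.1.1).1 = 0 ∨ (π c.1.1).1 = w := fun c => by
      refine perp_line w hw0 _ fun x hx => ?_
      obtain ⟨q, hq, eq, hqu⟩ := hlift x hx
      have := (A.model.commute_iff (hE c) hq.1).1 ((hM c.1).2.2 q hq hqu)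
      rw [eq, B8, CfsgLib.SuzType.B4_zero_right, add_zero] at this
      exact this
    let d : Γ.ker → ZMod 2 := fun c => if (π c.1.1).1 = 0 then 0 else 1
    have hd : ∀ c : Γ.ker, c.1.1 * pw u (d c) ∈ A.sndPart := fun c => by
      rcases eq_or_ne (π c.1.1).1 0 with h0 | h0
      · rw [show d c = 0 from if_pos h0, pw_zero, mul_one]; exact ⟨hE c, h0⟩
      · rw [show d c = 1 from if_neg h0, pw_one]
        refine ⟨(S.E s).mul_mem (hE c) hu.1, ?_⟩
        rw [A.model.map_mul _ (hE c) _ hu.1, Prod.fst_add, (hfst c).resolve_left h0]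
        exact w4_add_self w
    have := Nat.card_le_card_of_injective (fun c : Γ.ker => (d c, (⟨_, hd c⟩ : A.sndPart)))
      fun c c' h => by
        obtain ⟨h1, h2⟩ := Prod.ext_iff.1 h
        have h3 : c.1.1 * pw u (d c) = c'.1.1 * pw u (d c') := congrArg Subtype.val h2
        rw [show d c = d c' from h1] at h3
        exact Subtype.ext (Subtype.ext (mul_right_cancel h3))
    rwa [Nat.card_prod, A.card_sndPart, Nat.card_zmod] at this
  rw [← Γ.ker.card_mul_index, Subgroup.index_ker]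
  exact (Nat.mul_le_mul hker hrange').trans (by norm_num)

end Adapted

end CfsgLib.CoOneJTwo
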