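import Cfsg.Agent.Lib.CoOneJTwo.LayerSide
import Cfsg.Agent.Lib.CoOneJTwo.Abstract
import Cfsg.Agent.Lib.CoOneJTwo.CentralFive
import Cfsg.Agent.Lib.JTwoRecog.Amal.Side
import Cfsg.Agent.Lib.Ico.Bridge
import Cfsg.Agent.Lib.Components.Layer

/-!
# The centralizer of an element of order five in a group of Conway type
-/

set_option autoImplicit false
set_option linter.style.haveILetI false
set_option linter.unusedSectionVars false
set_option synthInstance.maxSize 20000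
set_option maxRecDepth 10000
set_option maxHeartbeats 2000000

namespace CfsgLib.CoOneJTwo

open CfsgLib.Classical.Quad
open CfsgLib.SuzType (W4 q4 B4 zcases)

universe u

variable {G : Type u} [Group G] [Finite G]

theorem main {S : Sys G} {z b : G} {π : G → V8} (A : Adapted S z b π) :
    Cfsg.Spor.IsoJ2 ↥(Cfsg.layer ↥(Subgroup.centralizer (Subgroup.zpowers b : Set G))) ∧
      Nonempty (↥(Subgroup.centralizer (((Cfsg.layer ↥(Subgroup.centralizer (Subgroup.zpowers b : Set G))).map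
        (Subgroup.centralizer (Subgroup.zpowers b : Set G)).subtype : Subgroup G) : Set G)) ≃*
        alternatingGroup (Fin 5)) := by
  classical
  haveI : Fact (Nat.Prime 5) := ⟨by norm_num⟩
  set H := Subgroup.centralizer (Subgroup.zpowers b : Set G) with hHdef
  have hmemH : ∀ g, g ∈ H ↔ Commute g b := fun g => by
    rw [hHdef, Subgroup.mem_centralizer_iff]
    refine ⟨fun h => (h b (Subgroup.mem_zpowers b)).symm, fun h c hc => ?_⟩
    obtain ⟨i, rfl⟩ := Subgroup.mem_zpowers_iff.1 hc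
    exact ((h.zpow_right i).symm :)
  set Kb := (Subgroup.zpowers b).subgroupOf H with hKb
  have hbH : Subgroup.zpowers b ≤ H := Subgroup.zpowers_le.2 ((hmemH b).2 (Commute.refl b))
  have hKbc : Kb ≤ Subgroup.center H := fun k hk => Subgroup.mem_center_iff.2 fun h => Subtype.ext (by
    obtain ⟨i, hi⟩ := Subgroup.mem_zpowers_iff.1 hk
    show (h : G) * k = k * h
    rw [show (k : G) = b ^ i from hi.symm]
    exact (((hmemH _).1 h.2).zpow_right i).eq)
  haveI hKbn : Kb.Normal :=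
    ⟨fun k hk h => by rwa [Subgroup.mem_center_iff.1 (hKbc hk) h, mul_inv_cancel_right]⟩
  have hcard5 : Nat.card (Subgroup.zpowers b) = 5 := by rw [Nat.card_zpowers, orderOf_eq_prime A.five A.ne]
  let mk : H →* H ⧸ Kb := QuotientGroup.mk' Kb
  have hmk : Function.Surjective mk := QuotientGroup.mk'_surjective Kb
  have hmk1 : ∀ h : H, mk h = 1 ↔ (h : G) ∈ Subgroup.zpowers b := fun h => by
    show (h : H ⧸ Kb) = 1 ↔ _
    rw [QuotientGroup.eq_one_iff]; exact Subgroup.mem_subgroupOf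
  have hker5 : Nat.card mk.ker = 5 := by
    rw [show mk.ker = Kb from QuotientGroup.ker_mk' Kb, hKb, Nat.card_congr (Subgroup.subgroupOfEquivOfLe hbH).toEquiv, hcard5]
  have hsmall : ∀ c ∈ Subgroup.zpowers b, c ^ 4 = 1 → c = 1 := fun c hc h4 =>
    eq_one_of_pow (pow_five_of_mem A.five hc) h4
  have hzz := A.model.sq_one
  have hzH : z ∈ H := (hmemH z).2 A.comm.symm
  set zX : H ⧸ Kb := mk ⟨z, hzH⟩ with hzX
  have hlift : ∀ h : H, Commute (mk h) zX → Commute (h : G) z := by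
    intro h hc
    have hc' : (h : G) * z * (h : G)⁻¹ * z⁻¹ ∈ Subgroup.zpowers b := (hmk1 (h * ⟨z, hzH⟩ * h⁻¹ * ⟨z, hzH⟩⁻¹)).1 (by
      rw [map_mul, map_mul, map_mul, map_inv, map_inv, ← hzX, hc.eq, mul_inv_cancel_right, mul_inv_cancel])
    set c := (h : G) * z * (h : G)⁻¹ * z⁻¹ with hcdef
    have e : (h : G) * z * (h : G)⁻¹ = c * z := by rw [hcdef]; group
    have hcz : Commute z c := by
      obtain ⟨i, hi⟩ := Subgroup.mem_zpowers_iff.1 hc'
      rw [← hi]; exact (A.comm.symm).zpow_right i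
    have h2 : c * z * (c * z) = 1 := by
      rw [← e, show (h : G) * z * (h : G)⁻¹ * ((h : G) * z * (h : G)⁻¹) = h * (z * z) * (h : G)⁻¹ by group, hzz]
      group
    rw [show c * z * (c * z) = c * (z * c) * z by group, hcz.eq, show c * (c * z) * z = c * c * (z * z) by group,
      hzz, mul_one] at h2
    have hc1 := hsmall c hc' (by rw [show (4 : ℕ) = 2 + 2 from rfl, pow_add, pow_two, h2, one_mul])
    rw [hc1, one_mul] at e
    exact mul_inv_eq_iff_eq_mul.1 e
  have hcbH : A.cb ≤ H := fun c hc => (hmemH c).2 (A.mem_cb.1 hc).2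
  have hψmem : ∀ c : A.cb, mk ⟨c, hcbH c.2⟩ ∈ Subgroup.centralizer ({zX} : Set (H ⧸ Kb)) := fun c =>
    Subgroup.mem_centralizer_singleton_iff.2 (by
      have hc : (⟨c, hcbH c.2⟩ : H) * ⟨z, hzH⟩ = ⟨z, hzH⟩ * ⟨c, hcbH c.2⟩ := Subtype.ext (A.mem_cb.1 c.2).1.eq
      rw [hzX, ← map_mul, ← map_mul, hc])
  have hψsurj : ∀ x : ↥(Subgroup.centralizer ({zX} : Set (H ⧸ Kb))), ∃ c : A.cb, mk ⟨c, hcbH c.2⟩ = x.1 := by
    rintro ⟨x, hx⟩
    obtain ⟨h, rfl⟩ := hmk x
    exact ⟨⟨h, A.mem_cb.2 ⟨hlift h (Subgroup.mem_centralizer_singleton_iff.1 hx), (hmemH _).1 h.2⟩⟩, rfl⟩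
  have hbcb : b ∈ A.cb := A.mem_cb.2 ⟨A.comm, Commute.refl b⟩
  have hwd : ∀ c d : A.cb, mk ⟨c, hcbH c.2⟩ = mk ⟨d, hcbH d.2⟩ → A.toAlt c = A.toAlt d := by
    intro c d e
    obtain ⟨i, hi⟩ := Subgroup.mem_zpowers_iff.1
      ((hmk1 (⟨c, hcbH c.2⟩⁻¹ * ⟨d, hcbH d.2⟩)).1 (by rw [map_mul, map_inv, e, inv_mul_cancel]))
    have hd : d = c * (⟨b, hbcb⟩ : A.cb) ^ i := Subtype.ext (by
      show (d : G) = c * ((⟨b, hbcb⟩ : A.cb) ^ i : A.cb)
      rw [SubgroupClass.coe_zpow]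
      show (d : G) = c * b ^ i
      rw [hi]; simp)
    rw [hd, map_mul, map_zpow, A.toAlt_b, one_zpow, mul_one]
  choose rep hrep using hψsurj
  let f : ↥(Subgroup.centralizer ({zX} : Set (H ⧸ Kb))) →* alternatingGroup (Fin 5) :=
    MonoidHom.mk' (fun x => A.toAlt (rep x)) fun x y => by
      rw [← map_mul]
      refine hwd _ _ ?_
      rw [hrep, Subgroup.coe_mul, ← hrep x, ← hrep y, ← map_mul]; rfl
  have hfψ : ∀ c : A.cb, f ⟨_, hψmem c⟩ = A.toAlt c := fun c => hwd _ _ (hrep _)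
  have hfstH : A.fstPart ≤ H := fun q hq => (hmemH q).2 (A.mem_fstPart.1 hq).2.symm
  set QX := (A.fstPart.subgroupOf H).map mk with hQX
  have hmemQX : ∀ q : G, ∀ hq : q ∈ A.fstPart, mk ⟨q, hfstH hq⟩ ∈ QX := fun q hq =>
    Subgroup.mem_map_of_mem mk (show (⟨q, hfstH hq⟩ : H) ∈ A.fstPart.subgroupOf H from hq)
  have hQXcases : ∀ x ∈ QX, ∃ (q : G) (hq : q ∈ A.fstPart), mk ⟨q, hfstH hq⟩ = x := by
    rintro _ ⟨⟨q, hqH⟩, hq, rfl⟩; exact ⟨q, hq, rfl⟩
  have hinj : ∀ q (hq : q ∈ A.fstPart), mk ⟨q, hfstH hq⟩ = 1 → q = 1 := fun q hq e =>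
    hsmall q ((hmk1 _).1 e) (A.model.pow_four hq.1)
  have hzf : z ∈ A.fstPart := ⟨A.model.mem, by rw [A.model.map_s]; rfl⟩
  have hzX1 : zX ≠ 1 := fun e => A.model.ne_one (hinj z hzf e)
  -- the second conjugate
  obtain ⟨u, huE, huπ, hbu⟩ := A.exists_fixed_lift (sv 0)
  have huf : u ∈ A.fstPart := A.mem_fstPart.2 ⟨huE, hbu⟩
  have huu : u * u = 1 := (A.model.sq_eq_one huE).2 (by rw [huπ]; decide)
  have hu1 : u ≠ 1 := fun e => by
    rw [e, A.model.map_one] at huπ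
    exact (sv_sing 0).2 (congrArg Prod.fst huπ).symm
  have huz : u ≠ z := fun e => by
    rw [e, A.model.map_s] at huπ
    exact (sv_sing 0).2 (congrArg Prod.fst huπ).symm
  obtain ⟨g, hgb, hgz, π', A', hzu⟩ := A.exists_conj_cent huE huu hu1 huz hbu
  have hH : CfsgLib.J2Type.Hyp zX QX f :=
    { hz := CfsgLib.Invol.orderOf_eq_two hzX1 (by
        rw [hzX, ← map_mul, show (⟨z, hzH⟩ : H) * ⟨z, hzH⟩ = 1 from Subtype.ext hzz, map_one])
      hQle := by
        intro x hx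
        obtain ⟨q, hq, rfl⟩ := hQXcases x hx
        exact hψmem ⟨q, A.fstPart_le_cb hq⟩
      hker := fun x => by
        constructor
        · intro hx
          obtain ⟨i, hi⟩ := A.of_toAlt_one (c := rep x) hx
          rw [← hrep x]
          refine ⟨⟨(b ^ i)⁻¹ * ((rep x : A.cb) : G), hfstH hi⟩, hi, ?_⟩
          have e : (⟨(b ^ i)⁻¹ * ((rep x : A.cb) : G), hfstH hi⟩ : H) =
              (⟨b, hcbH hbcb⟩ ^ i)⁻¹ * ⟨(rep x : A.cb), hcbH (rep x).2⟩ := Subtype.ext (by simp)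
          rw [e, map_mul, map_inv, map_pow, (hmk1 ⟨b, hcbH hbcb⟩).2 (Subgroup.mem_zpowers b), one_pow, inv_one,
            one_mul]
        · intro hx
          obtain ⟨q, hq, e⟩ := hQXcases _ hx
          show A.toAlt (rep x) = 1
          rw [hwd (rep x) ⟨q, A.fstPart_le_cb hq⟩ ((hrep x).trans e.symm), A.toAlt_fst hq]
      hsurj := fun a => by
        obtain ⟨c, rfl⟩ := A.toAlt_surjective a
        exact ⟨_, hfψ c⟩
      hQ := by
        rw [← A.card_fstPart]
        refine (Nat.card_eq_of_bijective (fun q : A.fstPart => (⟨_, hmemQX q.1 q.2⟩ : QX)) ⟨?_, ?_⟩).symm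
        · intro p q e
          have e' : mk ⟨p.1, hfstH p.2⟩ = mk ⟨q.1, hfstH q.2⟩ := congrArg Subtype.val e
          have h1 := hinj (p.1⁻¹ * q.1) (A.fstPart.mul_mem (A.fstPart.inv_mem p.2) q.2) (by
            rw [show (⟨p.1⁻¹ * q.1, hfstH (A.fstPart.mul_mem (A.fstPart.inv_mem p.2) q.2)⟩ : H) =
              ⟨p.1, hfstH p.2⟩⁻¹ * ⟨q.1, hfstH q.2⟩ from rfl, map_mul, map_inv, e', inv_mul_cancel])
          exact Subtype.ext (inv_mul_eq_one.1 h1)
        · rintro ⟨x, hx⟩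
          obtain ⟨q, hq, e⟩ := hQXcases x hx
          exact ⟨⟨q, hq⟩, Subtype.ext e⟩
      hzQ := hmemQX z hzf
      hsq := fun x hx => by
        obtain ⟨q, hq, rfl⟩ := hQXcases x hx
        have h := A.model.square q hq.1
        rcases zcases (q8 (π q)) with e | e <;> rw [e] at h
        · left; rw [pw_zero] at h
          rw [← map_mul, show (⟨q, hfstH hq⟩ : H) * ⟨q, hfstH hq⟩ = 1 from Subtype.ext h, map_one]
        · right; rw [pw_one] at h
          rw [← map_mul, show (⟨q, hfstH hq⟩ : H) * ⟨q, hfstH hq⟩ = ⟨z, hzH⟩ from Subtype.ext h]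
      hcomm := fun x hx y hy => by
        obtain ⟨p, hp, rfl⟩ := hQXcases x hx
        obtain ⟨q, hq, rfl⟩ := hQXcases y hy
        have h := A.model.swap p hp.1 q hq.1
        rcases zcases (B8 (π p) (π q)) with e | e <;> rw [e] at h
        · left; rw [pw_zero, mul_one] at h
          rw [← map_mul, ← map_mul]; exact congrArg mk (Subtype.ext h)
        · right; rw [pw_one] at h
          rw [hzX, ← map_mul, ← map_mul, ← map_mul]; exact congrArg mk (Subtype.ext h)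
      hcent := fun x hx hall => by
        obtain ⟨p, hp, rfl⟩ := hQXcases x hx
        have hpc : ∀ q ∈ A.fstPart, Commute p q := by
          intro q hq
          have h1 := hinj (p * q * p⁻¹ * q⁻¹) (A.fstPart.mul_mem (A.fstPart.mul_mem (A.fstPart.mul_mem hp hq)
            (A.fstPart.inv_mem hp)) (A.fstPart.inv_mem hq)) (by
            rw [show (⟨p * q * p⁻¹ * q⁻¹, _⟩ : H) =
              ⟨p, hfstH hp⟩ * ⟨q, hfstH hq⟩ * ⟨p, hfstH hp⟩⁻¹ * ⟨q, hfstH hq⟩⁻¹ from rfl,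
              map_mul, map_mul, map_mul, map_inv, map_inv, hall _ (hmemQX q hq), mul_inv_cancel_right,
              mul_inv_cancel])
          exact mul_inv_eq_iff_eq_mul.1 (mul_inv_eq_one.1 h1)
        have hp2 := (A.k2_inf hp.1).1 (A.mem_k2.2 ⟨A.model.le_cent p hp.1, hpc⟩)
        rcases (A.model.ker p hp.1).1 (Prod.ext hp2.2 hp.2) with e | e
        · exact Or.inl (by
            rw [show (⟨p, hfstH hp⟩ : H) = 1 from Subtype.ext e, map_one])
        · exact Or.inr (congrArg mk (Subtype.ext e))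
      hfaith := fun x hx => by
        obtain ⟨c, hc⟩ : ∃ c : A.cb, mk ⟨c, hcbH c.2⟩ = x.1 := ⟨_, hrep x⟩
        obtain ⟨hcz, hcb⟩ := A.mem_cb.1 c.2
        have hk : (c : G) ∈ A.k2 := A.mem_k2.2 ⟨hcz, fun q hq => by
          have hconj : (c : G) * q * (c : G)⁻¹ ∈ A.fstPart := A.mem_fstPart.2
            ⟨A.model.normal _ hcz q hq.1, (hcb.symm.mul_right (A.mem_fstPart.1 hq).2).mul_right hcb.symm.inv_right⟩
          have h1 := hinj ((c : G) * q * (c : G)⁻¹ * q⁻¹) (A.fstPart.mul_mem hconj (A.fstPart.inv_mem hq)) (by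
            rw [show (⟨(c : G) * q * (c : G)⁻¹ * q⁻¹, _⟩ : H) =
              ⟨c, hcbH c.2⟩ * ⟨q, hfstH hq⟩ * ⟨c, hcbH c.2⟩⁻¹ * ⟨q, hfstH hq⟩⁻¹ from rfl,
              map_mul, map_mul, map_mul, map_inv, map_inv, hc, (hx _ (hmemQX q hq)).eq, mul_inv_cancel_right,
              mul_inv_cancel])
          exact mul_inv_eq_iff_eq_mul.1 (mul_inv_eq_one.1 h1)⟩
        obtain ⟨g2, -, hg2⟩ := A.k2_action hk
        have h1 : A.toAlt c = 1 := by rw [A.toAlt_eq_one, A.theta_eq (c := c) hg2]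
        obtain ⟨i, hi⟩ := A.of_toAlt_one h1
        rw [← hc]
        refine ⟨⟨(b ^ i)⁻¹ * (c : G), hfstH hi⟩, hi, ?_⟩
        have e : (⟨(b ^ i)⁻¹ * (c : G), hfstH hi⟩ : H) =
            (⟨b, hcbH hbcb⟩ ^ i)⁻¹ * ⟨c, hcbH c.2⟩ := Subtype.ext (by simp)
        rw [e, map_mul, map_inv, map_pow, (hmk1 ⟨b, hcbH hbcb⟩).2 (Subgroup.mem_zpowers b), one_pow, inv_one,
          one_mul]
      hnwc := by
        refine ⟨mk ⟨u, hfstH huf⟩, hmemQX u huf, fun e => ?_, isConj_iff.2 ⟨mk ⟨g, (hmemH g).2 hgb⟩, ?_⟩⟩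
        · have h1 := hinj (u * z⁻¹) (A.fstPart.mul_mem huf (A.fstPart.inv_mem hzf)) (by
            rw [show (⟨u * z⁻¹, _⟩ : H) = ⟨u, hfstH huf⟩ * ⟨z, hzH⟩⁻¹ from rfl, map_mul, map_inv, e, hzX,
              mul_inv_cancel])
          exact huz (mul_inv_eq_one.1 h1)
        · rw [hzX, ← map_inv, ← map_mul, ← map_mul]
          exact congrArg mk (Subtype.ext hgz) }
  -- two classes of involutions
  obtain ⟨t, ht, htz, htQ⟩ := exists_outside hH
  have htt := CfsgLib.Invol.mul_self_eq_one ht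
  obtain ⟨h₀, hh₀⟩ := hmk t
  obtain ⟨x, hxt, hxx⟩ : ∃ x : H, mk x = t ∧ (x : G) * x = 1 := by
    refine ⟨h₀ ^ 5, ?_, ?_⟩
    · rw [map_pow, hh₀, show (5 : ℕ) = 2 + 2 + 1 from rfl, pow_succ, pow_add, pow_two, htt, one_mul, one_mul]
    · rw [SubmonoidClass.coe_pow, ← pow_add, show 5 + 5 = 2 * 5 from rfl, pow_mul]
      refine pow_five_of_mem A.five ((hmk1 (h₀ ^ 2)).1 ?_)
      rw [map_pow, hh₀, pow_two, htt]
  have hxz : Commute (x : G) z := hlift x (hxt ▸ htz)
  have hxb : Commute (x : G) b := (hmemH _).1 x.2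
  have hxE : (x : G) ∉ S.E z := fun hx =>
    htQ (hxt ▸ hmemQX x (A.mem_fstPart.2 ⟨hx, hxb.symm⟩))
  have hnK := A.not_K hxz hxb hxx hxE
  have hnc : ¬ IsConj zX t := by
    intro hc
    obtain ⟨y, hy⟩ := isConj_iff.1 hc
    obtain ⟨k, rfl⟩ := hmk y
    rw [← hxt, hzX, ← map_inv, ← map_mul, ← map_mul] at hy
    have hd : (x : G)⁻¹ * ((k : G) * z * (k : G)⁻¹) ∈ Subgroup.zpowers b :=
      (hmk1 (x⁻¹ * (k * ⟨z, hzH⟩ * k⁻¹))).1 (by rw [map_mul, map_inv, hy, inv_mul_cancel])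
    set c := (x : G)⁻¹ * ((k : G) * z * (k : G)⁻¹) with hcdef
    have e : (k : G) * z * (k : G)⁻¹ = x * c := by rw [hcdef]; group
    have hxc : Commute c (x : G) := by
      obtain ⟨i, hi⟩ := Subgroup.mem_zpowers_iff.1 hd
      rw [← hi]; exact (hxb.zpow_right i).symm
    have h2 : (x : G) * c * (x * c) = 1 := by
      rw [← e, show (k : G) * z * (k : G)⁻¹ * ((k : G) * z * (k : G)⁻¹) = k * (z * z) * (k : G)⁻¹ by group, hzz]
      group
    rw [show (x : G) * c * (x * c) = x * (c * x) * c by group, hxc.eq,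
      show (x : G) * (x * c) * c = x * x * (c * c) by group, hxx, one_mul] at h2
    have hc1 := hsmall c hd (by rw [show (4 : ℕ) = 2 + 2 from rfl, pow_add, pow_two, h2, one_mul])
    rw [hc1, mul_one] at e
    exact hnK (e ▸ S.K_conj k z A.Ks)
  obtain ⟨t', V, B', hct, htz', -⟩ := hH.exists_ct ht hnc
  let D : CfsgLib.JTwoType.Data (H ⧸ Kb) := ⟨zX, t', _, _, V, B', hH.cz_hyp hct.ht hct.hzt htz', hct,
    hH.classes hct.ht hct.hzt, hH.card_group ht hnc⟩
  haveI hsimple : IsSimpleGroup (H ⧸ Kb) := isSimple hH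
  have hna : ¬ IsMulCommutative (H ⧸ Kb) := by
    intro hc
    obtain ⟨a, ha⟩ := (by decide +kernel : ∃ a : alternatingGroup (Fin 5) × alternatingGroup (Fin 5),
      a.1 * a.2 ≠ a.2 * a.1)
    obtain ⟨p, hp⟩ := hH.hsurj a.1
    obtain ⟨q, hq⟩ := hH.hsurj a.2
    exact ha (by rw [← hp, ← hq, ← map_mul, ← map_mul,
      show p * q = q * p from Subtype.ext (hc.is_comm.comm p.1 q.1)])
  -- the complement
  set L0 := commutator H with hL0
  have hL0inf : mk.ker ⊓ L0 = ⊥ :=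
    commutator_inf_ker D mk hmk ((QuotientGroup.ker_mk' Kb).le.trans hKbc) hker5
  have hL0map : L0.map mk = ⊤ := by
    rw [hL0, commutator_def, Subgroup.map_commutator, Subgroup.map_top_of_surjective mk hmk, ← commutator_def]
    exact (inferInstance : (commutator (H ⧸ Kb)).Normal).eq_bot_or_eq_top.resolve_left
      fun h => hna ((commutator_eq_bot_iff _).mp h)
  have hL0inj : ∀ l ∈ L0, mk l = 1 → l = 1 := fun l hl e =>
    Subgroup.mem_bot.1 (hL0inf.le ⟨MonoidHom.mem_ker.2 e, hl⟩)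
  have hbij : Function.Bijective (mk.comp L0.subtype) := by
    refine ⟨(injective_iff_map_eq_one _).2 fun l hl => Subtype.ext (hL0inj l l.2 hl), fun y => ?_⟩
    obtain ⟨l, hl, e⟩ := (hL0map.ge (Subgroup.mem_top y) : y ∈ L0.map mk)
    exact ⟨⟨l, hl⟩, e⟩
  let eL : L0 ≃* H ⧸ Kb := MulEquiv.ofBijective (mk.comp L0.subtype) hbij
  have hcompL : Cfsg.IsComponent L0 :=
    ⟨Subgroup.Normal.isSubnormal inferInstance,
      (CfsgLib.Components.quasisimple_congr eL).2 (CfsgLib.Components.isQuasisimple_of_isSimpleGroup hna)⟩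
  have hlayer : Cfsg.layer H = L0 := by
    refine le_antisymm (sSup_le fun K hK => ?_) (le_sSup hcompL)
    refine (CfsgLib.Components.component_le_or_commutator_normal hK
      (inferInstance : L0.Normal)).resolve_right fun hKL => ?_
    have hle : K ≤ Kb := fun k hk => by
      have hkc := CfsgLib.Components.le_centralizer_of_commutator_eq_bot hKL hk
      have hcen : mk k ∈ Subgroup.center (H ⧸ Kb) := Subgroup.mem_center_iff.2 fun y => by
        obtain ⟨l, rfl⟩ := hbij.2 y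
        show mk (l : H) * mk k = mk k * mk (l : H)
        rw [← map_mul, ← map_mul, Subgroup.mem_centralizer_iff.1 hkc l l.2]
      rcases (inferInstance : (Subgroup.center (H ⧸ Kb)).Normal).eq_bot_or_eq_top with h | h
      · rw [h, Subgroup.mem_bot] at hcen
        rw [← QuotientGroup.ker_mk' Kb]; exact MonoidHom.mem_ker.2 hcen
      · exact absurd ((commutator_eq_bot_iff _).mp ((commutator_eq_bot_iff_center_eq_top _).mpr h)) hna
    exact CfsgLib.Components.quasisimple_not_isMulCommutative hK.2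
      ⟨⟨fun x y => Subtype.ext ((Subgroup.mem_center_iff.1 (hKbc (hle y.2)) x.1) :)⟩⟩
  rw [hlayer]
  refine ⟨?_, ?_⟩
  · obtain ⟨e'⟩ := CfsgLib.JTwoRecog.iso_of_data D
    exact ⟨eL.trans (e'.trans CfsgLib.Ico.bridge.symm)⟩
  set LG := L0.map H.subtype with hLG
  have hC : Compl b LG :=
    { le := by
        rintro _ ⟨l, -, rfl⟩; exact (hmemH _).1 l.2
      dec := fun h hh => by
        obtain ⟨⟨l, hl⟩, e⟩ := hbij.2 (mk ⟨h, (hmemH h).2 hh⟩)
        refine ⟨((⟨h, (hmemH h).2 hh⟩ : H)⁻¹ * l : H), (hmk1 _).1 ?_, ?_⟩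
        · rw [map_mul, map_inv, show mk l = mk ⟨h, (hmemH h).2 hh⟩ from e, inv_mul_cancel]
        · exact ⟨l, hl, by simp⟩
      inf := by
        rintro c hc ⟨l, hl, rfl⟩
        exact congrArg Subtype.val (hL0inj l hl ((hmk1 l).2 hc)) }
  have hzL : z ∈ LG := A.fst_le_compl hC hzf
  have hgen : ∀ m, m ∈ A.k2 → m ∈ A'.k2 → ∀ l ∈ LG, Commute l m := by
    intro m hm hm'
    let P : Subgroup H := L0 ⊓ (Subgroup.centralizer ({m} : Set G)).subgroupOf H
    have htop : P.map mk = ⊤ := by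
      rw [eq_top_iff, ← closure_pair hH (u := mk ⟨u, hfstH huf⟩) (hmemQX u huf)
        (by rw [← map_mul, show (⟨u, hfstH huf⟩ : H) * ⟨u, hfstH huf⟩ = 1 from Subtype.ext huu, map_one])
        (fun e => hu1 (hinj u huf e)) (fun e => huz (by
          have h1 := hinj (u * z⁻¹) (A.fstPart.mul_mem huf (A.fstPart.inv_mem hzf)) (by
            rw [show (⟨u * z⁻¹, _⟩ : H) = ⟨u, hfstH huf⟩ * ⟨z, hzH⟩⁻¹ from rfl, map_mul, map_inv, e, hzX,
              mul_inv_cancel])
          exact mul_inv_eq_one.1 h1)) ht hnc]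
      refine sup_le (fun y hy => ?_) fun y hy => ?_
      · obtain ⟨⟨l, hl⟩, rfl⟩ := hbij.2 y
        refine ⟨l, ⟨hl, ?_⟩, rfl⟩
        exact Subgroup.mem_centralizer_singleton_iff.2
          (A.compl_facts hC ⟨l, hl, rfl⟩ (hlift l (Subgroup.mem_centralizer_singleton_iff.1 hy)) m hm).eq
      · obtain ⟨⟨l, hl⟩, rfl⟩ := hbij.2 y
        refine ⟨l, ⟨hl, ?_⟩, rfl⟩
        have hlu : Commute (l : G) u := by
          have hy' : Commute (mk l) (mk ⟨u, hfstH huf⟩) := Subgroup.mem_centralizer_singleton_iff.1 hy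
          let k : H := ⟨g, (hmemH g).2 hgb⟩
          have hgu : mk k * zX * (mk k)⁻¹ = mk ⟨u, hfstH huf⟩ := by
            rw [hzX, ← map_inv, ← map_mul, ← map_mul]; exact congrArg mk (Subtype.ext hgz)
          have h1 : Commute (mk (k⁻¹ * l * k)) zX := by
            rw [← Commute.conj_iff (mk k), hgu, map_mul, map_mul, map_inv,
              show mk k * ((mk k)⁻¹ * mk l * mk k) * (mk k)⁻¹ = mk l by group]
            exact hy'
          have h2 := hlift _ h1
          have h3 := (Commute.conj_iff g).2 h2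
          rwa [hgz, show g * ((k⁻¹ * l * k : H) : G) * g⁻¹ = (l : G) by
            show g * (g⁻¹ * (l : G) * g) * g⁻¹ = (l : G); group] at h3
        exact Subgroup.mem_centralizer_singleton_iff.2 (A'.compl_facts hC ⟨l, hl, rfl⟩ hlu m hm').eq
    rintro _ ⟨l, hl, rfl⟩
    obtain ⟨l', ⟨hl', hlm⟩, e⟩ := (htop.ge (Subgroup.mem_top (mk l)) : mk l ∈ P.map mk)
    have : l' = l := by
      have h1 := hL0inj (l⁻¹ * l') (L0.mul_mem (L0.inv_mem hl) hl') (by rw [map_mul, map_inv, e, inv_mul_cancel])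
      exact (inv_mul_eq_one.1 h1).symm
    rw [← this]
    exact Subgroup.mem_centralizer_singleton_iff.1 hlm
  set CL := Subgroup.centralizer (LG : Set G) with hCL
  have hCLk2 : ∀ c ∈ CL, c ∈ A.k2 := fun c hc => A.mem_k2.2
    ⟨(Subgroup.mem_centralizer_iff.1 hc z hzL).symm,
      fun q hq => (Subgroup.mem_centralizer_iff.1 hc q (A.fst_le_compl hC hq)).symm⟩
  have hICL : A.k2 ⊓ A'.k2 ≤ CL := fun m hm => Subgroup.mem_centralizer_iff.2 fun l hl =>
    (hgen m hm.1 hm.2 l hl).eq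
  have hmulc : ∀ K H : Subgroup G, K ≤ H → Nat.card K * K.relIndex H = Nat.card H := fun K H hKH => by
    have := Subgroup.relIndex_mul_relIndex ⊥ K H bot_le hKH
    rwa [Subgroup.relIndex_bot_left, Subgroup.relIndex_bot_left] at this
  have hk2M : A.k2 ≤ A.mGroup u := fun m hm => by
    obtain ⟨h1, h2⟩ := A.mem_k2.1 hm
    exact ⟨⟨Subgroup.mem_centralizer_singleton_iff.2 h1.eq, Subgroup.mem_centralizer_singleton_iff.2 (h2 u huf).eq⟩,
      Subgroup.mem_centralizer_iff.2 fun q hq => (h2 q hq.1).symm.eq⟩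
  have hk2M' : A'.k2 ≤ A.mGroup u := fun m hm => by
    obtain ⟨h1, h2⟩ := A'.mem_k2.1 hm
    exact ⟨⟨Subgroup.mem_centralizer_singleton_iff.2 (h2 z (A'.mem_fstPart.2 ⟨hzu, A.comm⟩)).eq,
      Subgroup.mem_centralizer_singleton_iff.2 h1.eq⟩,
      Subgroup.mem_centralizer_iff.2 fun q hq => (A'.compl_facts hC (A.fst_le_compl hC hq.1) hq.2 m hm).eq⟩
  have hI60 : 60 ≤ Nat.card (A.k2 ⊓ A'.k2 : Subgroup G) := by
    have hM := A.card_mGroup huf huu hu1 huz
    have e1 := hmulc A'.k2 (A.mGroup u) hk2M'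
    have e2 := hmulc (A.k2 ⊓ A'.k2) A.k2 inf_le_left
    rw [Subgroup.inf_relIndex_left] at e2
    have e3 : A'.k2.relIndex A.k2 ≤ A'.k2.relIndex (A.mGroup u) :=
      Subgroup.relIndex_le_of_le_right hk2M Subgroup.FiniteIndex.index_ne_zero
    rw [A'.card_k2] at e1
    rw [A.card_k2] at e2
    have e4 : A'.k2.relIndex A.k2 ≤ 32 := by omega
    nlinarith
  have hzCL : z ∉ CL := by
    intro hz
    refine hzX1 ?_
    have hcen : zX ∈ Subgroup.center (H ⧸ Kb) := Subgroup.mem_center_iff.2 fun y => by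
      obtain ⟨⟨l, hl⟩, rfl⟩ := hbij.2 y
      show mk l * zX = zX * mk l
      rw [hzX, ← map_mul, ← map_mul]
      exact congrArg mk (Subtype.ext (Subgroup.mem_centralizer_iff.1 hz _ ⟨l, hl, rfl⟩))
    rcases (inferInstance : (Subgroup.center (H ⧸ Kb)).Normal).eq_bot_or_eq_top with h | h
    · exact Subgroup.mem_bot.1 (h ▸ hcen)
    · exact absurd ((commutator_eq_bot_iff _).mp ((commutator_eq_bot_iff_center_eq_top _).mpr h)) hna
  have hbCL : b ∈ CL := Subgroup.mem_centralizer_iff.2 fun l hl => (hC.le l hl).eq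
  have hCLinj : ∀ c ∈ CL, c ∈ A.sndPart → c = 1 := by
    intro c hc hcs
    by_contra hc1
    have hπ : (π c).2 ≠ 0 := fun e => by
      rcases (A.model.ker c hcs.1).1 (Prod.ext hcs.2 e) with e | e
      exacts [hc1 e, hzCL (e ▸ hc)]
    let T : Set W4 := {y | ∃ q, q ∈ CL ∧ q ∈ A.sndPart ∧ (π q).2 = y}
    have hT : ∀ y, y ∈ T := fun y => f4_irred hπ T ⟨1, CL.one_mem, A.sndPart.one_mem, by rw [A.model.map_one]; rfl⟩
      ⟨c, hc, hcs, rfl⟩
      (by
        rintro _ ⟨p, hp, hp', rfl⟩ _ ⟨q, hq, hq', rfl⟩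
        exact ⟨p * q, CL.mul_mem hp hq, A.sndPart.mul_mem hp' hq', by rw [A.model.map_mul p hp'.1 q hq'.1]; rfl⟩)
      (by
        rintro _ ⟨p, hp, hp', rfl⟩
        exact ⟨b * p * b⁻¹, CL.mul_mem (CL.mul_mem hbCL hp) (CL.inv_mem hbCL), A.conj_sndPart hp',
          by rw [A.acts.2 p hp'.1]; rfl⟩) y
    obtain ⟨p, hp, hp', ep⟩ := hT (sv 0)
    obtain ⟨q, hq, hq', eq⟩ := hT (sv 1)
    have h := A.model.swap p hp'.1 q hq'.1
    rw [B8, hp'.2, hq'.2, ep, eq, show B4 (sv 0) (sv 1) = 1 by decide, CfsgLib.SuzType.B4_zero_left, zero_add,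
      pw_one] at h
    refine hzCL ?_
    have h2 := CL.mul_mem (CL.inv_mem (CL.mul_mem hq hp)) (CL.mul_mem hp hq)
    rwa [h, inv_mul_cancel_left] at h2
  let φ : CL →* alternatingGroup (Fin 5) :=
    evenHom.comp ((A.k2Hom.comp (Subgroup.inclusion hCLk2)).codRestrict sgn.ker fun c => (A.k2Hom_spec _).1)
  have hφ : Function.Injective φ := (injective_iff_map_eq_one φ).2 fun c hc => by
    have h1 : A.k2Hom (Subgroup.inclusion hCLk2 c) = 1 :=
      congrArg Subtype.val ((map_eq_one_iff evenHom evenHom_bijective.1).1 hc)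
    exact Subtype.ext (hCLinj c c.2 (A.k2Hom_eq_one.1 h1))
  have hcard : Nat.card (alternatingGroup (Fin 5)) ≤ Nat.card CL := by
    rw [Nat.card_eq_fintype_card, CfsgLib.InvChar.J2Order.alt_card]
    exact hI60.trans (Subgroup.card_le_of_le hICL)
  exact ⟨MulEquiv.ofBijective φ (hφ.bijective_of_nat_card_le hcard)⟩

end CfsgLib.CoOneJTwo
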