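import Cfsg.Agent.Lib.CoOneJTwo.Four

/-!
# The hyperbolic space of dimension eight as the sum of two elliptic spaces
-/

set_option autoImplicit false
set_option linter.style.haveILetI false
set_option maxRecDepth 10000

namespace CfsgLib.CoOneJTwo

open CfsgLib.Classical.Quad CfsgLib.Orth
open QuadraticMap (polar)
open CfsgLib.SuzType (W4 q4 B4 r4 zcases zne zadd w4_add_self)

/-- The eight-dimensional space. -/
abbrev V8 : Type := W4 × W4

/-- The form. -/
def q8 (x : V8) : ZMod 2 := q4 x.1 + q4 x.2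

/-- The polar form. -/
def B8 (x y : V8) : ZMod 2 := B4 x.1 y.1 + B4 x.2 y.2

/-- The form as a quadratic map. -/
noncomputable def Q8 : QuadraticForm (ZMod 2) V8 := Q4.prod Q4

theorem Q8_apply (x : V8) : Q8 x = q8 x := rfl

theorem v8_add_self (x : V8) : x + x = 0 := Prod.ext (w4_add_self _) (w4_add_self _)

theorem v8_add_eq {x y z : V8} (h : x + y = z) : x = z + y := by
  rw [← h, add_assoc, v8_add_self, add_zero]

theorem w4_add_eq {x y z : W4} (h : x + y = z) : x = z + y := by
  rw [← h, add_assoc, w4_add_self, add_zero]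

theorem polar_Q8 (x y : V8) : polar Q8 x y = B8 x y := by
  show Q4 (x.1 + y.1) + Q4 (x.2 + y.2) - (Q4 x.1 + Q4 x.2) - (Q4 y.1 + Q4 y.2) = _
  have h1 := polar_Q4 x.1 y.1
  have h2 := polar_Q4 x.2 y.2
  simp only [polar] at h1 h2
  rw [B8, ← h1, ← h2]; ring

theorem B8_add_left (x y z : V8) : B8 (x + y) z = B8 x z + B8 y z := by
  simp only [B8, B4, Prod.fst_add, Prod.snd_add]; ring

theorem B8_add_right (x y z : V8) : B8 x (y + z) = B8 x y + B8 x z := by
  simp only [B8, B4, Prod.fst_add, Prod.snd_add]; ring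

theorem B8_comm (x y : V8) : B8 x y = B8 y x := by simp only [B8, B4]; ring

theorem B8_self (x : V8) : B8 x x = 0 := by
  rw [B8]
  have := (by decide : ∀ a : W4, B4 a a = 0)
  rw [this, this, add_zero]

theorem q8_add (x y : V8) : q8 (x + y) = q8 x + q8 y + B8 x y := by
  have h := polar_Q8 x y
  simp only [polar, Q8_apply] at h
  rw [← h]; ring

theorem nd8 : NDPolar Q8 := by
  intro x hx
  simp only [polar_Q8] at hx
  refine Prod.ext (nd4 _ fun y => ?_) (nd4 _ fun y => ?_) <;> rw [polar_Q4]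
  · have := hx (y, 0); simpa [B8] using this
  · have := hx (0, y); simpa [B8] using this

theorem q8_g (g : Orth Q8) (x : V8) : q8 (g.1 x) = q8 x := orth_Q g x

theorem B8_g (g : Orth Q8) (x y : V8) : B8 (g.1 x) (g.1 y) = B8 x y := by
  have := orth_polar g x y
  rwa [polar_Q8, polar_Q8] at this

theorem g8_zero (g : Orth Q8) : g.1 0 = 0 := map_zero g.1

theorem g8_add (g : Orth Q8) (x y : V8) : g.1 (x + y) = g.1 x + g.1 y := map_add g.1 x y

theorem gen8 : Subgroup.closure (reflSet Q8) = ⊤ := by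
  refine closure_refl nd8 (Or.inr ?_)
  simp [W4, V8]

theorem exists_one8 : ∃ v, Q8 v ≠ 0 := ⟨(sv 0 + sv 1, 0), by rw [Q8_apply]; decide⟩

/-- The commutator subgroup of the isometry group. -/
noncomputable def Ev : Subgroup (Orth Q8) := commutator (Orth Q8)

theorem index_Ev : Ev.index = 2 := index_commutator_of_closure_refl nd8 gen8 exists_one8

instance : Ev.Normal := Subgroup.normal_of_index_eq_two index_Ev

theorem refl_not_mem {a : V8} (ha : q8 a = 1) : refl Q8 a ∉ Ev := by
  intro h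
  have h1 : refl Q8 a ∈ (dickson nd8 gen8).ker := Abelianization.commutator_subset_ker _ h
  rw [MonoidHom.mem_ker, dickson_refl nd8 gen8 (by rw [Q8_apply, ha]; decide)] at h1
  exact absurd h1 (by decide)

/-- The isometry acting componentwise. -/
noncomputable def inj : Orth Q4 × Orth Q4 →* Orth Q8 where
  toFun g := ⟨g.1.1.prodCongr g.2.1, fun x => by
    show Q4 (g.1.1 x.1) + Q4 (g.2.1 x.2) = Q4 x.1 + Q4 x.2
    rw [orth_Q, orth_Q]⟩
  map_one' := orth_ext fun _ => rfl
  map_mul' _ _ := orth_ext fun _ => rfl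

theorem inj_apply (g h : Orth Q4) (x : V8) : (inj (g, h)).1 x = (g.1 x.1, h.1 x.2) := rfl

theorem inj_injective : Function.Injective inj := by
  rintro ⟨g, h⟩ ⟨g', h'⟩ e
  refine Prod.ext (orth_ext fun x => ?_) (orth_ext fun x => ?_)
  · have := congrArg (fun k : Orth Q8 => (k.1 (x, 0)).1) e
    exact this
  · have := congrArg (fun k : Orth Q8 => (k.1 (0, x)).2) e
    exact this

theorem refl_fst {a : W4} (ha : q4 a = 1) : inj (refl Q4 a, 1) = refl Q8 (a, 0) := by
  refine orth_ext fun x => ?_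
  have hq : q8 (a, 0) = 1 := by rw [q8, ha]; rfl
  rw [inj_apply, refl4 ha, one_apply, refl_apply, polar_Q8, Q8_apply, hq, div_one, CharTwo.neg_eq]
  simp [B8, r4, Prod.ext_iff]

theorem refl_snd {a : W4} (ha : q4 a = 1) : inj (1, refl Q4 a) = refl Q8 (0, a) := by
  refine orth_ext fun x => ?_
  have hq : q8 (0, a) = 1 := by rw [q8, ha]; rfl
  rw [inj_apply, refl4 ha, one_apply, refl_apply, polar_Q8, Q8_apply, hq, div_one, CharTwo.neg_eq]
  simp [B8, r4, Prod.ext_iff]

theorem even_iff (j : Orth Q4 →* Orth Q8) (hj : ∀ a, q4 a = 1 → j (refl Q4 a) ∉ Ev) (g : Orth Q4) :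
    j g ∈ Ev ↔ sgn g = 1 := by
  have hA : ∀ g, sgn g = 1 → j g ∈ Ev := fun g hg => by
    have h1 : perm g ∈ commutator (Equiv.Perm (Fin 5)) := by
      rw [alternatingGroup.commutator_perm_eq (by simp)]
      exact hg
    have h2 : g ∈ commutator (Orth Q4) := by
      have h3 := Subgroup.mem_map_of_mem permEquiv.symm.toMonoidHom h1
      rw [commutator_def, Subgroup.map_commutator, Subgroup.map_top_of_surjective _ permEquiv.symm.surjective,
        ← commutator_def] at h3
      rwa [show permEquiv.symm.toMonoidHom (perm g) = g from permEquiv.symm_apply_apply g] at h3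
    have h4 : j g ∈ (commutator (Orth Q4)).map j := Subgroup.mem_map_of_mem j h2
    rw [commutator_def, Subgroup.map_commutator] at h4
    exact Subgroup.commutator_mono le_top le_top h4
  refine ⟨fun h => ?_, hA g⟩
  by_contra hg
  have hs : sgn g = -1 := (Int.units_eq_one_or _).resolve_left hg
  have hq := (swap_sum 0 1 (by decide)).1
  have h2 : j (g * refl Q4 (sv 0 + sv 1)) ∈ Ev := hA _ (by
    rw [map_mul, hs, sgn_refl 0 1 (by decide)]; rfl)
  rw [map_mul, Subgroup.mul_mem_iff_of_index_two index_Ev] at h2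
  exact hj _ hq (h2.1 h)

theorem inj_mem_iff (g h : Orth Q4) : inj (g, h) ∈ Ev ↔ sgn g = sgn h := by
  have e1 := even_iff (inj.comp (MonoidHom.inl _ _)) (fun a ha => by
    show inj (refl Q4 a, 1) ∉ Ev
    rw [refl_fst ha]; exact refl_not_mem (by rw [q8, ha]; rfl)) g
  have e2 := even_iff (inj.comp (MonoidHom.inr _ _)) (fun a ha => by
    show inj (1, refl Q4 a) ∉ Ev
    rw [refl_snd ha]; exact refl_not_mem (by rw [q8, ha]; rfl)) h
  rw [show inj (g, h) = inj (g, 1) * inj (1, h) by rw [← map_mul]; simp,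
    Subgroup.mul_mem_iff_of_index_two index_Ev]
  refine (iff_congr e1 e2).trans ?_
  rcases Int.units_eq_one_or (sgn g) with h1 | h1 <;> rcases Int.units_eq_one_or (sgn h) with h2 | h2 <;>
    rw [h1, h2] <;> decide

/-! ### The order of the group -/

/-- Coordinates of the standard hyperbolic form. -/
def coordFun (v : Fin 4 ⊕ Fin 4 → ZMod 2) : V8 :=
  ((v (.inl 0), v (.inr 0), v (.inl 2) + v (.inl 3) + v (.inr 3), v (.inr 2) + v (.inl 3) + v (.inr 3)),
    (v (.inl 1), v (.inr 1), v (.inl 2) + v (.inr 2) + v (.inr 3), v (.inl 3) + v (.inr 3)))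

/-- The inverse. -/
def coordInv (x : V8) : Fin 4 ⊕ Fin 4 → ZMod 2 :=
  Sum.elim ![x.1.1, x.2.1, x.1.2.2.1 + x.2.2.2.2, x.1.2.2.1 + x.1.2.2.2 + x.2.2.2.1 + x.2.2.2.2]
    ![x.1.2.1, x.2.2.1, x.1.2.2.2 + x.2.2.2.2, x.1.2.2.1 + x.1.2.2.2 + x.2.2.2.1]

/-- Coordinates as a linear equivalence. -/
def coord8 : (Fin 4 ⊕ Fin 4 → ZMod 2) ≃ₗ[ZMod 2] V8 where
  toFun := coordFun
  invFun := coordInv
  left_inv := (by decide +kernel : ∀ v, coordInv (coordFun v) = v)
  right_inv := (by decide +kernel : ∀ x, coordFun (coordInv x) = x)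
  map_add' a b := by
    refine Prod.ext (Prod.ext ?_ (Prod.ext ?_ (Prod.ext ?_ ?_))) (Prod.ext ?_ (Prod.ext ?_ (Prod.ext ?_ ?_))) <;>
      simp only [coordFun, Pi.add_apply, Prod.fst_add, Prod.snd_add] <;> ring
  map_smul' c a := by simp [coordFun, mul_add]

theorem coord8_spec (v : Fin 4 ⊕ Fin 4 → ZMod 2) :
    Q8 (coord8 v) = Cfsg.quadFormPlus 4 (ZMod 2) v := by
  show q8 (coordFun v) = _
  simp only [q8, q4, coordFun, Cfsg.quadFormPlus, Fin.sum_univ_four]
  generalize v (.inl 0) = a0, v (.inl 1) = a1, v (.inl 2) = a2, v (.inl 3) = a3, v (.inr 0) = c0,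
    v (.inr 1) = c1, v (.inr 2) = c2, v (.inr 3) = c3
  revert a0 a1 a2 a3 c0 c1 c2 c3
  decide +kernel

theorem card_orth8 : Nat.card (Orth Q8) = 348364800 := by
  rw [← Nat.card_congr (isometryEquivModel coord8 coord8_spec).toEquiv,
    CfsgLib.Classical.SmallIso.card_isometryGroup_plus, Nat.card_zmod]
  norm_num [Finset.prod_range_succ]

instance : Finite (Orth Q8) := Nat.finite_of_card_ne_zero (by rw [card_orth8]; norm_num)

theorem card_Ev : Nat.card Ev = 174182400 := by
  have := Subgroup.card_mul_index Ev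
  rw [card_orth8, index_Ev] at this
  omega

theorem card_omega8 : Nat.card (Cfsg.Omega (ZMod 2) (Cfsg.quadFormPlus 4 (ZMod 2))) = 174182400 := by
  rw [Nat.card_congr (commutatorEquiv (isometryEquivModel coord8 coord8_spec)).toEquiv]
  exact card_Ev

end CfsgLib.CoOneJTwo
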